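import Mathlib
import Cfsg.Agent.Lib.Helper3.ES3KleinMain

/-!
# ES3 module [ABSK4]: abstract Klein/Dickson counting, "at most three tori of order divisible by 4"

Same setting as [ABSK6] (`Cfsg/Agent/Lib/Helper70/ES3/AbsK6.lean`, read its header for the class equation
`N - 1 = Σ_j (N/δ_j - o_j)`, `N = δ_j e_j o_j`).
Claim: the number of tori `T` with `4 ∣ e_T` is at most 3.
Paper proof. If some torus has `e ≥ 6`, then by [ABSK6] it is the only torus with `e ≥ 3`: at most one torus.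
Otherwise every torus with `4 ∣ e` has `e = 4`. Take an orbit with `e₁ = 4`.
`δ₁ = 1`: term `3N/4`, rest `N/4 - 1 < N/4`: no other orbit, `N = 4`, `o₁ = 1`.
`δ₁ = 2`: term `3N/8`, rest `R = 5N/8 - 1`. The possible other terms are `N(1-1/e)` (δ=1; `N/2, 2N/3, ...`)
and `N(1/2 - 1/(2e))` (δ=2; `N/4, N/3, 3N/8, 2N/5`, recall `e ≤ 5`).
One other term: only `N/2` works (`N = 8`, `o₁ = 1`). Two other terms: only `N/4 + N/4` (`N = 8`, `o₁ = 1`) and
`N/4 + N/3` (`N = 24`, `o₁ = 3`) work (`N/4 + 3N/8 = 5N/8 ≠ R`, everything else is `> 5N/8`). Three: `≥ 3N/4 > R`.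
In particular there is only one orbit with `e = 4` and it has `o₁ ≤ 3` members.

Formalised by helper3: the counting lives in `Cfsg/Agent/Lib/Helper3/ES3Klein.lean` (orbits, double count,
rational orbit data) and `ES3KleinMain.lean` (`Hyp.uniq`: a torus with `e ≥ 6` is the only one with `e ≥ 3`;
`Hyp.card_le_three`).
-/

namespace Cfsg.Agent.Lib.Helper70.ES3

theorem abs_klein_four {W : Type*} [Group W] [Finite W] (Z : Subgroup W) (hZ : Z ≤ Subgroup.center W)
    (hab : ∀ g : W, g ∉ Z → ∀ a b : W, Commute a g → Commute b g → Commute a b)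
    (hnorm : ∀ g : W, g ∉ Z → ∀ u v : W, ¬ Commute u g → ¬ Commute v g →
      Commute (u * g * u⁻¹) g → Commute (v * g * v⁻¹) g → Commute (u⁻¹ * v) g)
    (S : Finset W)
    (hS : ∀ g ∈ S, g ∉ Z ∧ (4 * Nat.card Z) ∣ Nat.card (Subgroup.centralizer ({g} : Set W)))
    (hnc : ∀ g ∈ S, ∀ h ∈ S, g ≠ h → ¬ Commute g h) :
    S.card ≤ 3 := by
  classical
  haveI : Fintype W := Fintype.ofFinite W
  have H : Cfsg.Agent.Lib.Helper3.ES3K.Hyp Z := ⟨hZ, hab, hnorm⟩
  have hz : Nat.card Z = Fintype.card Z := Nat.card_eq_fintype_card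
  apply H.card_le_three S _ hnc
  intro g hg
  obtain ⟨hgZ, hdvd⟩ := hS g hg
  refine ⟨hgZ, ?_⟩
  rw [Cfsg.Agent.Lib.Helper3.ES3K.card_cen_eq, ← hz]
  exact hdvd

end Cfsg.Agent.Lib.Helper70.ES3
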