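import Mathlib
import Cfsg.Agent.Lib.Helper3.ES3KleinMain

/-!
# ES3 module [ABSK6]: abstract Klein/Dickson counting, "two big tori commute"

`W` a finite group, `Z` a central subgroup. Hypotheses:
* `hab`  : for `g ∉ Z` the centralizer `C_W(g)` is commutative (so the "tori" `C_W(g)`, `g ∉ Z`,
           partition `W \ Z` and two tori are equal or meet in `Z`);
* `hnorm`: `|N_W(C_W(g)) : C_W(g)| ≤ 2` (written elementwise).
Conclusion: two elements whose tori have order `≥ 6 |Z|` commute (i.e. have the same torus).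

Paper proof. `N := |W|/|Z|`. Tori `T = C_W(g)` (g ∉ Z); `e_T := |T|/|Z| ≥ 2`; `N_W(T) = {u | u g u⁻¹ ∈ T}`
has `|N_W(T):T| = δ_T ∈ {1,2}`; the class of `T` has `o_T = N/(δ_T e_T)` members. Partition of `W \ Z`:
`N - 1 = Σ_{orbits j} o_j (e_j - 1) = Σ_j (N/δ_j - o_j)`, every term `≥ N/(2δ_j) ≥ N/4`, so at most 3 orbits,
at most one with `δ = 1`. Suppose orbit `j₀` has `e ≥ 6` (so `o ≤ N/(6δ)`).
* `δ = 1`: term `≥ 5N/6`, no room for another orbit; `N - 1 = N - o` gives `o = 1`.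
* `δ = 2`: term `= N/2 - o ≥ 5N/12`; the other terms sum to `N/2 - 1 + o < 7N/12`: at most two others.
  none: impossible. One other `(δ₁,e₁,o₁)`: `δ₁ = 2` gives `o₁ + o = 1`, impossible; `δ₁ = 1` gives
  `o₁ = N/2 + 1 - o`, and `o₁ = N/e₁ ≤ N/2` forces `o = 1`, `e₁ = 2` (if `o ≥ 2` then
  `5N/12 + 1 ≤ N/e₁ ≤ N/2 - 1`, no integer `e₁`). Two others: both `δ = 2`,
  `o₁ + o₂ + o = N/2 + 1` with `o_i = N/(2e_i) ≤ N/4`; if some `e_i ≥ 3` then `o ≥ N/12 + 1 > N/12 ≥ o`.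
  So `o = 1` and all other orbits have `e = 2`.
Hence a torus with `e ≥ 6` is unique among tori with `e ≥ 3`: two elements with big tori have the same torus.

Formalised by helper3: the counting lives in `Cfsg/Agent/Lib/Helper3/ES3Klein.lean` (orbits, double count,
rational orbit data) and `ES3KleinMain.lean` (`Hyp.uniq`: a torus with `e ≥ 6` is the only one with `e ≥ 3`;
`Hyp.card_le_three`).
-/

namespace Cfsg.Agent.Lib.Helper70.ES3

theorem abs_klein_six {W : Type*} [Group W] [Finite W] (Z : Subgroup W) (hZ : Z ≤ Subgroup.center W)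
    (hab : ∀ g : W, g ∉ Z → ∀ a b : W, Commute a g → Commute b g → Commute a b)
    (hnorm : ∀ g : W, g ∉ Z → ∀ u v : W, ¬ Commute u g → ¬ Commute v g →
      Commute (u * g * u⁻¹) g → Commute (v * g * v⁻¹) g → Commute (u⁻¹ * v) g)
    (g₁ g₂ : W) (h₁ : g₁ ∉ Z) (h₂ : g₂ ∉ Z)
    (hbig₁ : 6 * Nat.card Z ≤ Nat.card (Subgroup.centralizer ({g₁} : Set W)))
    (hbig₂ : 6 * Nat.card Z ≤ Nat.card (Subgroup.centralizer ({g₂} : Set W))) :
    Commute g₁ g₂ := by
  classical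
  haveI : Fintype W := Fintype.ofFinite W
  have H : Cfsg.Agent.Lib.Helper3.ES3K.Hyp Z := ⟨hZ, hab, hnorm⟩
  have hz : Nat.card Z = Fintype.card Z := Nat.card_eq_fintype_card
  apply H.uniq h₁ h₂
  · rw [Cfsg.Agent.Lib.Helper3.ES3K.card_cen_eq, ← hz]
    exact hbig₁
  · rw [Cfsg.Agent.Lib.Helper3.ES3K.card_cen_eq, ← hz]
    omega

end Cfsg.Agent.Lib.Helper70.ES3
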