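import Mathlib
import Cfsg.Agent.Lib.Helper3.ES3Coord

/-!
# ES3 module [SL2GEN-ABS]: upper and lower transvections generate all automorphisms of order `p` of `C_p × C_p`

Abstract form: `A` elementary abelian of order `p^2` (multiplicative), `z, x` a basis (`z ≠ 1`, `x ∉ ⟨z⟩`), `S` a
subgroup of `MulAut A` containing every `u t : z ↦ z, x ↦ x z^t` and every `lo t : x ↦ x, z ↦ z x^t`.
Then `S` contains every automorphism of order `p`.

Paper proof. Every element of `A` is uniquely `z^i x^j`, and an automorphism is determined by its values at `z, x`: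
`φ z = z^a x^c`, `φ x = z^b x^d`, matrix `m φ = [[a, b], [c, d]]` over `ZMod p` (columns = images), `m (φ ψ) = m φ * m ψ`,
and `φ ↦ m φ` is injective into invertible matrices (one may build `MulAut A ≃* GL (Fin 2) (ZMod p)` via
`A ≃* Multiplicative (ZMod p × ZMod p)`, or just work with the four exponents).
`orderOf φ = p` ⇒ `(det m φ)^p = 1` and `(det m φ)^(p-1) = 1` ⇒ `det m φ = 1`.
A matrix of determinant 1: if `c ≠ 0` then `[[a, b], [c, d]] = U((a-1)/c) L(c) U((d-1)/c)` where `U t = [[1, t], [0, 1]]`,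
`L s = [[1, 0], [s, 1]]` (check: the product is `[[1 + t c, t' + t (1 + c t')], [c, 1 + c t']]` with `t = (a-1)/c`,
`t' = (d-1)/c`, top right `= (a d - 1)/c = b`). If `c = 0` then `a ≠ 0` and `L(1) * m` has lower-left entry `a ≠ 0`, so
`m = L(-1) * (U L U)`. `U t = m (u t)`, `L s = m (lo s)`; so `φ` is a product of elements of `S`.

Formalised by helper3 on top of `Cfsg/Agent/Lib/Helper3/ES3Coord.lean` (coordinates, `detM`, `mem_of_detM_eq_one`).
-/

namespace Cfsg.Agent.Lib.Helper70.ES3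

open Cfsg.Agent.Lib.Helper3.ES3 Multiplicative

theorem mem_of_transvections {p : ℕ} [Fact p.Prime] {A : Type*} [CommGroup A] [Finite A]
    (hA : Nat.card A = p ^ 2) (hexp : ∀ a : A, a ^ p = 1) (z x : A) (hz : z ≠ 1)
    (hx : x ∉ Subgroup.zpowers z) (S : Subgroup (MulAut A))
    (hU : ∀ t : ℕ, ∃ φ ∈ S, φ z = z ∧ φ x = x * z ^ t)
    (hL : ∀ t : ℕ, ∃ φ ∈ S, φ x = x ∧ φ z = z * x ^ t) :
    ∀ φ : MulAut A, orderOf φ = p → φ ∈ S := by
  intro φ hφ
  obtain ⟨e, he⟩ := exists_coord (p := p) hA hexp z x hz hx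
  have hez : e z = e₁ := coord_z he
  have hex : e x = e₂ := coord_x he
  have hezs : e.symm e₁ = z := by rw [← hez, e.symm_apply_apply]
  have hexs : e.symm e₂ = x := by rw [← hex, e.symm_apply_apply]
  set T : MulAut A ≃* MulAut (M p) := MulAut.congr e with hT
  have hTapply : ∀ (ψ : MulAut A) (m : M p), T ψ m = e (ψ (e.symm m)) := fun ψ m => rfl
  have hU' : ∀ t : ZMod p, uM t ∈ S.map T.toMonoidHom := by
    intro t
    obtain ⟨ψ, hψS, hψz, hψx⟩ := hU t.val
    refine ⟨ψ, hψS, ?_⟩
    show T ψ = uM t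
    apply mulAut_ext
    · rw [hTapply, hezs, hψz, hez]
      show e₁ = uM t (ofAdd ((1, 0) : V p))
      rw [uM_apply]
      show (ofAdd ((1, 0) : V p) : M p) = _
      congr 2
      ring
    · rw [hTapply, hexs, hψx, map_mul, map_pow, hez, hex]
      show e₂ * e₁ ^ t.val = uM t (ofAdd ((0, 1) : V p))
      rw [uM_apply]
      apply toAdd.injective
      rw [toAdd_mul, toAdd_pow, toAdd_ofAdd]
      show ((0, 1) : V p) + t.val • ((1, 0) : V p) = _
      ext
      · simp
      · simp
  have hL' : ∀ t : ZMod p, loM t ∈ S.map T.toMonoidHom := by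
    intro t
    obtain ⟨ψ, hψS, hψx, hψz⟩ := hL t.val
    refine ⟨ψ, hψS, ?_⟩
    show T ψ = loM t
    apply mulAut_ext
    · rw [hTapply, hezs, hψz, map_mul, map_pow, hez, hex]
      show e₁ * e₂ ^ t.val = loM t (ofAdd ((1, 0) : V p))
      rw [loM_apply]
      apply toAdd.injective
      rw [toAdd_mul, toAdd_pow, toAdd_ofAdd]
      show ((1, 0) : V p) + t.val • ((0, 1) : V p) = _
      ext
      · simp
      · simp
    · rw [hTapply, hexs, hψx, hex]
      show e₂ = loM t (ofAdd ((0, 1) : V p))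
      rw [loM_apply]
      show (ofAdd ((0, 1) : V p) : M p) = _
      congr 2
      ring
  have hφp : φ ^ p = 1 := by
    have := pow_orderOf_eq_one φ
    rwa [hφ] at this
  have hpow : (T φ) ^ p = 1 := by
    rw [← map_pow, hφp, map_one]
  have hdet : detM (T φ) = 1 := detM_eq_one_of_pow hpow
  obtain ⟨φ', hφ'S, hφ'⟩ := mem_of_detM_eq_one (S.map T.toMonoidHom) hU' hL' hdet
  have : φ' = φ := T.injective hφ'
  rw [← this]
  exact hφ'S

end Cfsg.Agent.Lib.Helper70.ES3
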