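import Cfsg.Agent.Lib.Helper70.ES3.AllradSyl
import Cfsg.Agent.Lib.Helper70.ES3.Sl2Gen

/-!
# ES3 module [ALLRAD]: if all nonidentity elements of `P` are `G`-conjugate then every subgroup `A ≤ P` of order
`p^2` has `Aut_G(A) ≥ SL_2(p)`: every automorphism of `A` of order `p` is induced by an element of `G`

Paper proof. `S := {φ : MulAut ↥A | ∃ g : G, ∀ a, (φ a : G) = g a g⁻¹}` is a subgroup of `MulAut ↥A`.
Fix `z₀ ∈ Z = Z(P)`, `z₀ ≠ 1` (`|Z| = p`), and `x ∈ A \ Z` (`|A| = p^2 > p`); `Z ≤ A` (`centerIn_le_of_card`),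
`x ∉ ⟨z₀⟩ = Z`. Apply [SL2GEN-ABS] (`mem_of_transvections`) to the group `↥A` (commutative by `comm_of_card`) with
`z := ⟨z₀, _⟩`, `x := ⟨x, _⟩`:
* `hU t`: by `exists_transvection` there is `y ∈ P` with `y x y⁻¹ = x z₀^t`; `y` centralizes `z₀` and normalizes `A`
  (`conj_mem_of_card`), so conjugation by `y` restricted to `A` lies in `S`.
* `hL t`: [ALLRAD-SYL] gives `k` with `k z₀ k⁻¹ = x` and `A' := k⁻¹ A k ≤ P`. `A'` has order `p^2`; `a₀ := k⁻¹ z₀ k ∈ A'`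
  and `a₀ ∉ Z` (else `z₀ = k a₀ k⁻¹ ∈ k Z k⁻¹ = ⟨x⟩`, but `⟨x⟩ ∩ Z = 1`); `z' := z₀^t ∈ Z`; by `exists_transvection`
  (for `A'`) there is `y ∈ P` with `y a₀ y⁻¹ = a₀ z₀^t`. Then `q := k y k⁻¹` satisfies `q z₀ q⁻¹ = k (a₀ z₀^t) k⁻¹ = z₀ x^t`,
  `q x q⁻¹ = k y z₀ y⁻¹ k⁻¹ = x` (`k⁻¹ x k = z₀` is central in `P`), and `q` normalizes `A` (as `y` normalizes `A'`).
-/

namespace Cfsg.Agent.Lib.Helper70.ES3

/-- Conjugation by `y` restricted to a subgroup `A` that `y` normalizes. -/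
def es3ConjAut {G : Type*} [Group G] (A : Subgroup G) (y : G) (h1 : ∀ a ∈ A, y * a * y⁻¹ ∈ A)
    (h2 : ∀ a ∈ A, y⁻¹ * a * y ∈ A) : MulAut ↥A where
  toFun a := ⟨y * a * y⁻¹, h1 a a.2⟩
  invFun a := ⟨y⁻¹ * a * y, h2 a a.2⟩
  left_inv a := by apply Subtype.ext; simp [mul_assoc]
  right_inv a := by apply Subtype.ext; simp [mul_assoc]
  map_mul' a b := by apply Subtype.ext; simp [mul_assoc]

theorem es3ConjAut_coe {G : Type*} [Group G] (A : Subgroup G) (y : G) (h1 : ∀ a ∈ A, y * a * y⁻¹ ∈ A)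
    (h2 : ∀ a ∈ A, y⁻¹ * a * y ∈ A) (a : ↥A) : ((es3ConjAut A y h1 h2 a : ↥A) : G) = y * a * y⁻¹ := rfl

/-- The automorphisms of `A` induced by conjugation in `G`. -/
def es3Induced {G : Type*} [Group G] (A : Subgroup G) : Subgroup (MulAut ↥A) where
  carrier := {φ | ∃ g : G, ∀ a : ↥A, (φ a : G) = g * (a : G) * g⁻¹}
  one_mem' := ⟨1, fun a => by simp⟩
  mul_mem' := by
    rintro φ ψ ⟨g₁, h₁⟩ ⟨g₂, h₂⟩
    refine ⟨g₁ * g₂, fun a => ?_⟩
    rw [MulAut.mul_apply, h₁, h₂]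
    group
  inv_mem' := by
    rintro φ ⟨g, hg⟩
    refine ⟨g⁻¹, fun a => ?_⟩
    have := hg (φ⁻¹ a)
    rw [MulAut.apply_inv_self] at this
    rw [this]
    group


theorem es3_mem_of_pow_mem {G : Type*} [Group G] {p : ℕ} [Fact p.Prime] (x : G) (hxp : x ^ p = 1)
    (H : Subgroup G) (y : G) (hy : y ∈ Subgroup.zpowers x) (hy1 : y ≠ 1) (hyH : y ∈ H) : x ∈ H := by
  have hpp : p.Prime := Fact.out
  have hx1 : x ≠ 1 := by
    rintro rfl
    rw [Subgroup.zpowers_one_eq_bot, Subgroup.mem_bot] at hy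
    exact hy1 hy
  have hord : orderOf x = p := by
    have := orderOf_dvd_of_pow_eq_one hxp
    rcases (Nat.dvd_prime hpp).mp this with h | h
    · exact absurd (orderOf_eq_one_iff.mp h) hx1
    · exact h
  have hcard : Nat.card (Subgroup.zpowers x) = p := by rw [Nat.card_zpowers, hord]
  have := mem_zpowers_of_prime_card (G := ↥(Subgroup.zpowers x)) (p := p) hcard
      (g := ⟨y, hy⟩) (g' := ⟨x, Subgroup.mem_zpowers x⟩) (fun h => hy1 (congrArg Subtype.val h))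
  obtain ⟨i, hi⟩ := this
  have hi' : y ^ i = x := congrArg Subtype.val hi
  rw [← hi']
  exact H.zpow_mem hyH i

theorem hSL_of_hconj {G : Type*} [Group G] [Finite G] {p : ℕ} [Fact p.Prime] (P : Sylow p G)
    (hE : Cfsg.IsExtraspecial p ↥P) (hcard : Nat.card P = p ^ 3) (hexp : Monoid.exponent ↥P = p)
    (hconj : ∀ x y : ↥P, x ≠ 1 → y ≠ 1 → ∃ g : G, g * (x : G) * g⁻¹ = (y : G))
    (A : Subgroup G) (hAP : A ≤ (P : Subgroup G)) (hA : Nat.card A = p ^ 2) :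
    ∀ φ : MulAut ↥A, orderOf φ = p → ∃ g : G, ∀ a : ↥A, (φ a : G) = g * (a : G) * g⁻¹ := by
  have hpp : p.Prime := Fact.out
  have hcomm := comm_of_card (p := p) A hA
  let _ : CommGroup ↥A := { (inferInstance : Group ↥A) with
    mul_comm := fun a b => Subtype.ext (hcomm a a.2 b b.2) }
  have hZA := centerIn_le_of_card P hE hcard A hAP hA
  have hZcard := card_centerIn P hE
  have hexpA : ∀ a : ↥A, a ^ p = 1 := by
    intro a
    apply Subtype.ext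
    exact pow_p_eq_one P hexp (a : G) (hAP a.2)
  -- z₀
  obtain ⟨z₀, hz₀, hz₀1⟩ : ∃ z₀ ∈ centerIn (P : Subgroup G), z₀ ≠ 1 := by
    have h1 : 1 < Nat.card (centerIn (P : Subgroup G)) := by rw [hZcard]; exact hpp.one_lt
    rw [Subgroup.one_lt_card_iff_ne_bot, Subgroup.ne_bot_iff_exists_ne_one] at h1
    obtain ⟨z, hz1⟩ := h1
    exact ⟨z, z.2, fun h => hz1 (Subtype.ext h)⟩
  -- x
  obtain ⟨x, hxA, hxZ⟩ : ∃ x ∈ A, x ∉ centerIn (P : Subgroup G) := by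
    by_contra hcon
    push Not at hcon
    have hle : A ≤ centerIn (P : Subgroup G) := hcon
    have h3 := Subgroup.card_le_of_le hle
    rw [hA, hZcard] at h3
    have h2 : p ^ 1 < p ^ 2 := Nat.pow_lt_pow_right hpp.one_lt (by norm_num)
    rw [pow_one] at h2
    omega
  -- every element of Z is a power of z₀
  have hZpow : ∀ z ∈ centerIn (P : Subgroup G), ∃ i : ℤ, z₀ ^ i = z := by
    intro z hz
    have := mem_zpowers_of_prime_card (G := ↥(centerIn (P : Subgroup G))) (p := p) hZcard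
      (g := ⟨z₀, hz₀⟩) (g' := ⟨z, hz⟩) (fun h => hz₀1 (congrArg Subtype.val h))
    obtain ⟨i, hi⟩ := this
    exact ⟨i, congrArg Subtype.val hi⟩
  have hz₀P : z₀ ∈ (P : Subgroup G) := centerIn_le _ hz₀
  have hz₀c : ∀ y ∈ (P : Subgroup G), y * z₀ = z₀ * y :=
    ((mem_centerIn_iff (P : Subgroup G) z₀).mp hz₀).2
  have hxp : x ^ p = 1 := pow_p_eq_one P hexp x (hAP hxA)
  have hPA1 : ∀ y ∈ (P : Subgroup G), ∀ a ∈ A, y * a * y⁻¹ ∈ A :=
    conj_mem_of_card P hE hcard A hAP hA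
  have hPA2 : ∀ y ∈ (P : Subgroup G), ∀ a ∈ A, y⁻¹ * a * y ∈ A := by
    intro y hy a ha
    have := hPA1 y⁻¹ (inv_mem hy) a ha
    simpa using this
  apply mem_of_transvections (p := p) (A := ↥A) hA hexpA ⟨z₀, hZA hz₀⟩ ⟨x, hxA⟩
    (fun h => hz₀1 (congrArg Subtype.val h)) ?_ (es3Induced A) ?_ ?_
  · -- x ∉ zpowers z
    rintro ⟨i, hi⟩
    have hi' : z₀ ^ i = x := congrArg Subtype.val hi
    exact hxZ (hi' ▸ (centerIn (P : Subgroup G)).zpow_mem hz₀ i)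
  · -- hU
    intro t
    obtain ⟨y, hyP, hy⟩ := exists_transvection P hE hcard hexp A hAP hA x hxA hxZ (z₀ ^ t)
      (Subgroup.pow_mem _ hz₀ t)
    refine ⟨es3ConjAut A y (hPA1 y hyP) (hPA2 y hyP), ⟨y, fun a => rfl⟩, ?_, ?_⟩
    · apply Subtype.ext
      rw [es3ConjAut_coe]
      show y * z₀ * y⁻¹ = z₀
      rw [hz₀c y hyP]; group
    · apply Subtype.ext
      rw [es3ConjAut_coe]
      exact hy
  · -- hL
    intro t
    obtain ⟨k, hk, hkA⟩ := exists_sylow_center P hE hcard hexp hconj A hAP hA x hxA hxZ z₀ hz₀ hz₀1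
    -- A' = k⁻¹ A k
    let f : G →* G := (MulAut.conj k⁻¹).toMonoidHom
    have hf : Function.Injective f := (MulAut.conj k⁻¹).injective
    have hfa : ∀ a : G, f a = k⁻¹ * a * k := by
      intro a; simp [f]
    have hA'P : A.map f ≤ (P : Subgroup G) := by
      rintro b ⟨a, ha, rfl⟩
      rw [hfa]; exact hkA a ha
    have hA'card : Nat.card (A.map f) = p ^ 2 := by
      rw [← hA]; exact (Nat.card_congr (A.equivMapOfInjective f hf).toEquiv).symm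
    have ha₀A' : k⁻¹ * z₀ * k ∈ A.map f := ⟨z₀, hZA hz₀, hfa z₀⟩
    have ha₀Z : k⁻¹ * z₀ * k ∉ centerIn (P : Subgroup G) := by
      intro hmem
      obtain ⟨i, hi⟩ := hZpow _ hmem
      have h1 : z₀ = x ^ i := by
        have : z₀ = k * (k⁻¹ * z₀ * k) * k⁻¹ := by group
        rw [this, ← hi, ← hk]
        simp [conj_zpow]
      exact hxZ (es3_mem_of_pow_mem (p := p) x hxp _ z₀ (h1 ▸ Subgroup.zpow_mem_zpowers x i) hz₀1 hz₀)
    obtain ⟨y, hyP, hy⟩ := exists_transvection P hE hcard hexp (A.map f) hA'P hA'card _ ha₀A' ha₀Z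
      (z₀ ^ t) (Subgroup.pow_mem _ hz₀ t)
    have hPA'1 := conj_mem_of_card P hE hcard (A.map f) hA'P hA'card
    have hq1 : ∀ y ∈ (P : Subgroup G), ∀ a ∈ A, (k * y * k⁻¹) * a * (k * y * k⁻¹)⁻¹ ∈ A := by
      intro y hyP a ha
      obtain ⟨a', ha', he⟩ := hPA'1 y hyP (k⁻¹ * a * k) ⟨a, ha, hfa a⟩
      rw [hfa] at he
      have : (k * y * k⁻¹) * a * (k * y * k⁻¹)⁻¹ = k * (y * (k⁻¹ * a * k) * y⁻¹) * k⁻¹ := by group
      rw [this, ← he]
      have : k * (k⁻¹ * a' * k) * k⁻¹ = a' := by group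
      rw [this]; exact ha'
    have hq2 : ∀ a ∈ A, (k * y * k⁻¹)⁻¹ * a * (k * y * k⁻¹) ∈ A := by
      intro a ha
      have := hq1 y⁻¹ (inv_mem hyP) a ha
      have e : (k * y * k⁻¹)⁻¹ * a * (k * y * k⁻¹) = (k * y⁻¹ * k⁻¹) * a * (k * y⁻¹ * k⁻¹)⁻¹ := by group
      rw [e]; exact this
    refine ⟨es3ConjAut A (k * y * k⁻¹) (hq1 y hyP) hq2, ⟨k * y * k⁻¹, fun a => rfl⟩, ?_, ?_⟩
    · apply Subtype.ext
      rw [es3ConjAut_coe]
      show (k * y * k⁻¹) * x * (k * y * k⁻¹)⁻¹ = x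
      have hx' : k⁻¹ * x * k = z₀ := by rw [← hk]; group
      have : (k * y * k⁻¹) * x * (k * y * k⁻¹)⁻¹ = k * (y * (k⁻¹ * x * k) * y⁻¹) * k⁻¹ := by group
      rw [this, hx', hz₀c y hyP]
      have : k * (z₀ * y * y⁻¹) * k⁻¹ = k * z₀ * k⁻¹ := by group
      rw [this, hk]
    · apply Subtype.ext
      rw [es3ConjAut_coe]
      show (k * y * k⁻¹) * z₀ * (k * y * k⁻¹)⁻¹ = z₀ * x ^ t
      have : (k * y * k⁻¹) * z₀ * (k * y * k⁻¹)⁻¹ = k * (y * (k⁻¹ * z₀ * k) * y⁻¹) * k⁻¹ := by group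
      rw [this, hy, ← hk, conj_pow]
      group

end Cfsg.Agent.Lib.Helper70.ES3
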