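import Cfsg.Agent.Lib.Helper70.ES3.PBasic

/-!
# ES3 module [ALLRAD-SYL]: if all nonidentity elements of `P` are `G`-conjugate, every `x ∈ A \ Z` is the centre of
another Sylow subgroup containing `A`

Paper proof. Let `z₀ ∈ Z := Z(P)`, `z₀ ≠ 1`, `x ∈ A \ Z` (so `x ≠ 1`, `x ∈ P`). By `hconj` there is `g` with
`g z₀ g⁻¹ = x`. `P' := g P g⁻¹` is a Sylow `p`-subgroup of `G` and of `C := C_G(x)` (`x = g z₀ g⁻¹` is central in `P'`).
`A ≤ C` because `A` is abelian (`comm_of_card`) and `x ∈ A`. `A` is a `p`-subgroup of `C`, so by Sylow's theorem in `C`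
(`IsPGroup.exists_le_sylow` + conjugacy of Sylow subgroups, or `Sylow.exists_comap_..`) there is `c ∈ C` with
`c A c⁻¹ ≤ P'`. Put `k := c⁻¹ g`. Then `A ≤ c⁻¹ P' c = k P k⁻¹` and `k z₀ k⁻¹ = c⁻¹ x c = x`; as `Z = ⟨z₀⟩`
(`|Z| = p` prime), `k z k⁻¹ ∈ ⟨x⟩` for all `z ∈ Z`.
-/

set_option linter.unusedSectionVars false
set_option linter.unusedVariables false
set_option linter.style.haveILetI false
set_option linter.unusedSimpArgs false

namespace Cfsg.Agent.Lib.Helper70.ES3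

open scoped Pointwise

/-- Sylow's theorem inside a subgroup `C`: a `p`-subgroup `A ≤ C` is `C`-conjugate into any Sylow
`p`-subgroup `Q` of `G` contained in `C`. -/
theorem exists_conj_mem_sylow_of_le {G : Type*} [Group G] [Finite G] {p : ℕ} [Fact p.Prime]
    (Q : Sylow p G) (C A : Subgroup G) (hQC : (Q : Subgroup G) ≤ C) (hAC : A ≤ C) (hA : IsPGroup p A) :
    ∃ c ∈ C, ∀ a ∈ A, c * a * c⁻¹ ∈ (Q : Subgroup G) := by
  -- `A` inside `C`
  have hA' : IsPGroup p (A.subgroupOf C) :=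
    hA.of_equiv (Subgroup.subgroupOfEquivOfLe hAC).symm
  obtain ⟨R, hR⟩ := hA'.exists_le_sylow
  obtain ⟨c, hc⟩ := MulAction.exists_smul_eq (↥C) R (Q.subtype hQC)
  refine ⟨(c : G), c.2, fun a ha => ?_⟩
  have h1 : (⟨a, hAC ha⟩ : ↥C) ∈ (R : Subgroup ↥C) := hR (Subgroup.mem_subgroupOf.mpr ha)
  have h2 : c * (⟨a, hAC ha⟩ : ↥C) * c⁻¹ ∈ ((c • R : Sylow p ↥C) : Subgroup ↥C) := by
    rw [Sylow.coe_subgroup_smul, Subgroup.mem_pointwise_smul_iff_inv_smul_mem]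
    have : (MulAut.conj c)⁻¹ • (c * (⟨a, hAC ha⟩ : ↥C) * c⁻¹) = (⟨a, hAC ha⟩ : ↥C) := by
      rw [MulAut.smul_def, MulAut.inv_def, MulAut.conj_symm_apply]
      group
    rw [this]; exact h1
  rw [hc, Sylow.coe_subtype, Subgroup.mem_subgroupOf] at h2
  simpa using h2

theorem exists_sylow_center {G : Type*} [Group G] [Finite G] {p : ℕ} [Fact p.Prime] (P : Sylow p G)
    (hE : Cfsg.IsExtraspecial p ↥P) (hcard : Nat.card P = p ^ 3) (hexp : Monoid.exponent ↥P = p)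
    (hconj : ∀ x y : ↥P, x ≠ 1 → y ≠ 1 → ∃ g : G, g * (x : G) * g⁻¹ = (y : G))
    (A : Subgroup G) (hAP : A ≤ (P : Subgroup G)) (hA : Nat.card A = p ^ 2)
    (x : G) (hxA : x ∈ A) (hxZ : x ∉ centerIn (P : Subgroup G))
    (z₀ : G) (hz₀ : z₀ ∈ centerIn (P : Subgroup G)) (hz₀1 : z₀ ≠ 1) :
    ∃ k : G, k * z₀ * k⁻¹ = x ∧ ∀ a ∈ A, k⁻¹ * a * k ∈ (P : Subgroup G) := by
  have hxP : x ∈ (P : Subgroup G) := hAP hxA
  have hz₀P : z₀ ∈ (P : Subgroup G) := centerIn_le _ hz₀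
  have hx1 : x ≠ 1 := by
    rintro rfl
    exact hxZ (Subgroup.one_mem _)
  obtain ⟨g, hg⟩ := hconj ⟨z₀, hz₀P⟩ ⟨x, hxP⟩
    (fun h => hz₀1 (congrArg Subtype.val h)) (fun h => hx1 (congrArg Subtype.val h))
  have hg' : g * z₀ * g⁻¹ = x := hg
  set C : Subgroup G := Subgroup.centralizer {x} with hC
  have hmemC : ∀ c, c ∈ C ↔ x * c = c * x := by
    intro c; rw [hC, Subgroup.mem_centralizer_singleton_iff]; exact eq_comm
  -- `P' = g P g⁻¹ ≤ C`
  have hP'C : ((g • P : Sylow p G) : Subgroup G) ≤ C := by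
    intro q hq
    rw [Sylow.coe_subgroup_smul, Subgroup.mem_pointwise_smul_iff_inv_smul_mem] at hq
    rw [MulAut.smul_def, MulAut.inv_def, MulAut.conj_symm_apply] at hq
    -- `y := g⁻¹ q g ∈ P` commutes with `z₀`
    have hcomm := ((mem_centerIn_iff _ _).mp hz₀).2 _ hq
    rw [hmemC, ← hg']
    have e1 : g * z₀ * g⁻¹ * q = g * (z₀ * (g⁻¹ * q * g)) * g⁻¹ := by group
    have e2 : q * (g * z₀ * g⁻¹) = g * ((g⁻¹ * q * g) * z₀) * g⁻¹ := by group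
    rw [e1, e2, hcomm]
  -- `A ≤ C`
  have hAC : A ≤ C := by
    intro a ha
    rw [hmemC]
    exact comm_of_card A hA x hxA a ha
  have hApg : IsPGroup p A := IsPGroup.of_card hA
  obtain ⟨c, hcC, hc⟩ := exists_conj_mem_sylow_of_le (g • P) C A hP'C hAC hApg
  refine ⟨c⁻¹ * g, ?_, fun a ha => ?_⟩
  · have hcx : x * c = c * x := (hmemC c).mp hcC
    calc c⁻¹ * g * z₀ * (c⁻¹ * g)⁻¹ = c⁻¹ * (g * z₀ * g⁻¹) * c := by group
      _ = c⁻¹ * x * c := by rw [hg']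
      _ = c⁻¹ * (x * c) := by group
      _ = x := by rw [hcx]; group
  · have h := hc a ha
    rw [Sylow.coe_subgroup_smul, Subgroup.mem_pointwise_smul_iff_inv_smul_mem] at h
    rw [MulAut.smul_def, MulAut.inv_def, MulAut.conj_symm_apply] at h
    have e : (c⁻¹ * g)⁻¹ * a * (c⁻¹ * g) = g⁻¹ * (c * a * c⁻¹) * g := by group
    rw [e]; exact h

end Cfsg.Agent.Lib.Helper70.ES3
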