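import Mathlib

/-!
# ES3 module [BIG]: size of a centralizer from powers outside a central subgroup

`Z ≤ Z(W)`. If `g^k ∉ Z` for `1 ≤ k < n` then the `n |Z|` elements `g^k z` (`k < n`, `z ∈ Z`) of `C_W(g)` are
distinct (`g^k z = g^j z'`, `k < j` gives `g^(j-k) ∈ Z`). If moreover `g^n ∈ Z` they form a subgroup
(`= Z ⊔ zpowers g`), so `n |Z|` divides `|C_W(g)|` (Lagrange).
-/

namespace Cfsg.Agent.Lib.Helper70.ES3

theorem big_aux_lt {W : Type*} [Group W] (Z : Subgroup W) (g : W) (n : ℕ)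
    (hk : ∀ k : ℕ, 1 ≤ k → k < n → g ^ k ∉ Z) (k j : ℕ) (hkj : k < j) (hj : j < n) (z z' : W)
    (hz : z ∈ Z) (hz' : z' ∈ Z) (h : g ^ k * z = g ^ j * z') : False := by
  have h1 : g ^ (j - k) = z * z'⁻¹ := by
    have h2 : g ^ j = g ^ k * g ^ (j - k) := by rw [← pow_add]; congr 1; omega
    rw [h2, mul_assoc] at h
    have h3 := mul_left_cancel h
    rw [h3]; group
  exact hk (j - k) (by omega) (by omega) (h1 ▸ Z.mul_mem hz (Z.inv_mem hz'))

theorem big_aux_inj {W : Type*} [Group W] (Z : Subgroup W) (g : W) (n : ℕ)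
    (hk : ∀ k : ℕ, 1 ≤ k → k < n → g ^ k ∉ Z) :
    Function.Injective (fun x : Fin n × Z => g ^ (x.1 : ℕ) * (x.2 : W)) := by
  rintro ⟨k, z⟩ ⟨j, z'⟩ h
  simp only at h
  rcases Nat.lt_trichotomy (k : ℕ) (j : ℕ) with hlt | heq | hgt
  · exact (big_aux_lt Z g n hk k j hlt j.2 z z' z.2 z'.2 h).elim
  · have hkj : k = j := Fin.ext heq
    subst hkj
    have := mul_left_cancel h
    have hz : z = z' := Subtype.ext this
    rw [hz]
  · exact (big_aux_lt Z g n hk j k hgt k.2 z' z z'.2 z.2 h.symm).elim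

theorem big_aux_mem {W : Type*} [Group W] (Z : Subgroup W)
    (hZ : Z ≤ Subgroup.center W) (g : W) (k : ℕ) (z : W) (hz : z ∈ Z) :
    g ^ k * z ∈ Subgroup.centralizer ({g} : Set W) := by
  rw [Subgroup.mem_centralizer_iff]
  intro h hh
  rw [Set.mem_singleton_iff] at hh
  subst hh
  have hzc := Subgroup.mem_center_iff.mp (hZ hz) h
  calc h * (h ^ k * z) = h ^ k * (h * z) := by
        rw [← mul_assoc, ← pow_succ', pow_succ, mul_assoc]
    _ = h ^ k * (z * h) := by rw [hzc]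
    _ = h ^ k * z * h := by rw [mul_assoc]

theorem card_centralizer_ge {W : Type*} [Group W] [Finite W] (Z : Subgroup W)
    (hZ : Z ≤ Subgroup.center W) (g : W) (n : ℕ)
    (hk : ∀ k : ℕ, 1 ≤ k → k < n → g ^ k ∉ Z) :
    n * Nat.card Z ≤ Nat.card (Subgroup.centralizer ({g} : Set W)) := by
  have h1 : Nat.card (Fin n × Z) = n * Nat.card Z := by
    rw [Nat.card_prod, Nat.card_fin]
  rw [← h1]
  refine Nat.card_le_card_of_injective
    (fun x : Fin n × Z => (⟨g ^ (x.1 : ℕ) * (x.2 : W), big_aux_mem Z hZ g _ _ x.2.2⟩ :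
      Subgroup.centralizer ({g} : Set W))) ?_
  intro x y hxy
  exact big_aux_inj Z g n hk (congrArg Subtype.val hxy)

theorem card_centralizer_dvd {W : Type*} [Group W] [Finite W] (Z : Subgroup W)
    (hZ : Z ≤ Subgroup.center W) (g : W) (n : ℕ) (hn : 0 < n)
    (hk : ∀ k : ℕ, 1 ≤ k → k < n → g ^ k ∉ Z) (hgn : g ^ n ∈ Z) :
    n * Nat.card Z ∣ Nat.card (Subgroup.centralizer ({g} : Set W)) := by
  have hZn : Z.Normal := by
    constructor
    intro z hz w
    have hzc := Subgroup.mem_center_iff.mp (hZ hz) w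
    rw [hzc, mul_assoc, mul_inv_cancel, mul_one]
    exact hz
  set K : Subgroup W := Subgroup.zpowers g ⊔ Z with hK
  have hmemK : ∀ (k : ℕ) (z : W), z ∈ Z → g ^ k * z ∈ K := by
    intro k z hz
    exact Subgroup.mul_mem _
      (Subgroup.mem_sup_left (Subgroup.pow_mem _ (Subgroup.mem_zpowers g) k))
      (Subgroup.mem_sup_right hz)
  have hKle : K ≤ Subgroup.centralizer ({g} : Set W) := by
    rw [hK, sup_le_iff]
    constructor
    · rw [Subgroup.zpowers_le]
      have := big_aux_mem Z hZ g 1 1 Z.one_mem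
      simpa using this
    · intro z hz
      have := big_aux_mem Z hZ g 0 z hz
      simpa using this
  have hcardK : Nat.card K = n * Nat.card Z := by
    have h1 : Nat.card (Fin n × Z) = n * Nat.card Z := by
      rw [Nat.card_prod, Nat.card_fin]
    rw [← h1]
    symm
    refine Nat.card_congr (Equiv.ofBijective
      (fun x : Fin n × Z => (⟨g ^ (x.1 : ℕ) * (x.2 : W), hmemK _ _ x.2.2⟩ : K)) ⟨?_, ?_⟩)
    · intro x y hxy
      exact big_aux_inj Z g n hk (congrArg Subtype.val hxy)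
    · rintro ⟨x, hx⟩
      rw [hK, Subgroup.mem_sup_of_normal_right] at hx
      obtain ⟨y, hy, z, hz, rfl⟩ := hx
      obtain ⟨i, rfl⟩ := Subgroup.mem_zpowers_iff.mp hy
      -- `i = n * q + r`
      have hn' : (n : ℤ) ≠ 0 := by exact_mod_cast hn.ne'
      have hr0 : 0 ≤ i % (n : ℤ) := Int.emod_nonneg i hn'
      have hrn : i % (n : ℤ) < n := Int.emod_lt_of_pos i (by exact_mod_cast hn)
      obtain ⟨r, hr⟩ := Int.eq_ofNat_of_zero_le hr0
      have hrn' : r < n := by
        rw [hr] at hrn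
        exact_mod_cast hrn
      have hi : g ^ i = g ^ r * (g ^ n) ^ (i / (n : ℤ)) := by
        have h2 : i = (r : ℤ) + (n : ℤ) * (i / (n : ℤ)) := by
          rw [← hr]
          exact (Int.emod_add_mul_ediv i n).symm
        conv_lhs => rw [h2]
        rw [zpow_add, zpow_mul, zpow_natCast, zpow_natCast]
      have hq : (g ^ n) ^ (i / (n : ℤ)) ∈ Z := Z.zpow_mem hgn _
      refine ⟨(⟨r, hrn'⟩, ⟨(g ^ n) ^ (i / (n : ℤ)) * z, Z.mul_mem hq hz⟩), ?_⟩
      apply Subtype.ext
      simp only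
      rw [hi, mul_assoc]
  rw [← hcardK]
  exact Subgroup.card_dvd_of_le hKle

end Cfsg.Agent.Lib.Helper70.ES3
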