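import Cfsg.Agent.Lib.Helper70.ES3.Commutant

/-!
# ES3 module [CMAT]: a `p'`-subgroup `W` of `GL_2(p)` (p odd) satisfies the hypotheses of the abstract
Klein/Dickson counting lemmas [ABSK6], [ABSK4] with `Z = scalarSub W`.

Paper proof. Let `g ∈ W` be non-scalar, `t = tr g`, `d = det g`, so `g² = t g - d` (Cayley–Hamilton, or a direct
`2 x 2` computation).
(1) scalars are central: clear.
(2) `hab`: `a, b` commute with `g` ⇒ `a, b ∈ F + F g` ([COMMUTANT]) ⇒ `a b = b a`.
(3) `disc := t² - 4 d ≠ 0`: otherwise `n := g - (t/2)` has `n² = 0` (`p` odd), so `g^p = (t/2)^p` is scalar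
    (`(x + y)^p = x^p + y^p` for commuting `x, y` in characteristic `p`); as `g^|W| = 1` with `|W|` prime to `p`,
    `g` is a power of `g^p`, hence scalar. Contradiction.
(4) `hnorm`: `g' := u g u⁻¹` commutes with `g`, so `g' = α + β g`; `g'` has the same
    trace and determinant: `2 α + β t = t` and `α² + α β t + β² d = d`; eliminating `α`:
    `(1 - β²)(t² - 4 d) = 0`, so `β = ± 1`; `β = 1` gives `g' = g`, i.e. `u`
    commutes with `g`; hence `β = -1`, `α = t`, `u g u⁻¹ = t - g`. The same for `v`. So `u g u⁻¹ = v g v⁻¹` and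
    `u⁻¹ v` commutes with `g`.
-/

namespace Cfsg.Agent.Lib.Helper70.ES3

theorem two_ne_zero_zmod {p : ℕ} [Fact p.Prime] (hp2 : p ≠ 2) : (2 : ZMod p) ≠ 0 := by
  intro h
  have h1 : ((2 : ℕ) : ZMod p) = 0 := by exact_mod_cast h
  rw [ZMod.natCast_eq_zero_iff] at h1
  have hp : p.Prime := Fact.out
  have := Nat.le_of_dvd (by norm_num) h1
  have := hp.two_le
  omega

/-- Cayley–Hamilton for `2 x 2` matrices. -/
theorem m2_cayley_hamilton {p : ℕ} (G : M2 p) :
    G * G = (Matrix.trace G) • G - (Matrix.det G) • (1 : M2 p) := by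
  apply m2_ext_entries <;>
    simp [Matrix.mul_apply, Fin.sum_univ_two, Matrix.trace_fin_two, Matrix.det_fin_two,
      Matrix.sub_apply, Matrix.smul_apply] <;> ring

theorem IsScalar.pow {p : ℕ} {g : M2 p} (hg : IsScalar g) (n : ℕ) : IsScalar (g ^ n) := by
  induction n with
  | zero => rw [pow_zero]; exact isScalar_one
  | succ n ih => rw [pow_succ]; exact ih.mul hg

/-- a matrix of order prime to `p` whose discriminant vanishes is scalar -/
theorem isScalar_of_disc_eq_zero {p : ℕ} [Fact p.Prime] (hp2 : p ≠ 2) (G : M2 p) (k : ℕ)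
    (hk : k.Coprime p) (hGk : G ^ k = 1)
    (hdisc : (Matrix.trace G) ^ 2 - 4 * Matrix.det G = 0) : IsScalar G := by
  have h2 := two_ne_zero_zmod hp2
  have hp : p.Prime := Fact.out
  rcases Nat.lt_or_ge 1 k with hk1 | hk1
  swap
  · -- `k ≤ 1`
    interval_cases k
    · -- `k = 0`: `Coprime 0 p` means `p = 1`
      rw [Nat.coprime_zero_left] at hk
      exact absurd hk hp.one_lt.ne'
    · rw [pow_one] at hGk
      rw [hGk]; exact isScalar_one
  set s : ZMod p := Matrix.trace G / 2 with hs
  set n : M2 p := G - s • (1 : M2 p) with hn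
  have hnn : n * n = 0 := by
    have hCH := m2_cayley_hamilton G
    have h4 : Matrix.det G = s ^ 2 := by
      rw [hs]; field_simp; linear_combination -hdisc
    have ht : Matrix.trace G = 2 * s := by rw [hs]; field_simp
    rw [hn, sub_mul, mul_sub, mul_sub, hCH, ht, h4]
    simp only [Matrix.smul_mul, Matrix.mul_smul, Matrix.one_mul, Matrix.mul_one, smul_smul]
    module
  have hGs : G = s • (1 : M2 p) + n := by rw [hn]; abel
  have hcomm : Commute (s • (1 : M2 p)) n := by
    have : IsScalar (s • (1 : M2 p)) := ⟨s, rfl⟩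
    exact this.commute n
  have hnp : n ^ p = 0 := by
    have h5 : n ^ p = n ^ 2 * n ^ (p - 2) := by
      rw [← pow_add]; congr 1; have := hp.two_le; omega
    rw [h5, pow_two, hnn, zero_mul]
  have hGp : IsScalar (G ^ p) := by
    have h1 : G ^ p = (s • (1 : M2 p)) ^ p + n ^ p := by
      conv_lhs => rw [hGs]
      exact add_pow_char_of_commute p hcomm
    rw [h1, hnp, add_zero]
    exact IsScalar.pow ⟨s, rfl⟩ p
  obtain ⟨a, -, ha⟩ := Nat.exists_mul_mod_eq_one_of_coprime hk.symm hk1
  have h3 : G = (G ^ p) ^ a := by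
    rw [← pow_mul, pow_eq_pow_mod (p * a) hGk, ha, pow_one]
  rw [h3]
  exact hGp.pow a

/-- trace and determinant of `α + β G` -/
theorem m2_trace_comb {p : ℕ} (α β : ZMod p) (G : M2 p) :
    Matrix.trace (α • (1 : M2 p) + β • G) = 2 * α + β * Matrix.trace G := by
  simp [Matrix.trace_fin_two]; ring

theorem m2_det_comb {p : ℕ} (α β : ZMod p) (G : M2 p) :
    Matrix.det (α • (1 : M2 p) + β • G) =
      α ^ 2 + α * β * Matrix.trace G + β ^ 2 * Matrix.det G := by
  simp [Matrix.trace_fin_two, Matrix.det_fin_two, Matrix.add_apply, Matrix.smul_apply]; ring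

/-- a conjugate of `G` commuting with `G` is `G` or `tr G - G` -/
theorem m2_conj_cases {p : ℕ} [Fact p.Prime] (hp2 : p ≠ 2) (G U U' : M2 p)
    (hU : U' * U = 1) (hG : ¬ IsScalar G)
    (hdisc : (Matrix.trace G) ^ 2 - 4 * Matrix.det G ≠ 0)
    (hcomm : (U * G * U') * G = G * (U * G * U')) :
    U * G * U' = G ∨ U * G * U' = (Matrix.trace G) • (1 : M2 p) - G := by
  have h2 := two_ne_zero_zmod hp2
  obtain ⟨α, β, hαβ⟩ := commutant_of_nonscalar G (U * G * U') hG hcomm
  have htr : Matrix.trace (U * G * U') = Matrix.trace G := by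
    rw [Matrix.trace_mul_comm, ← Matrix.mul_assoc, hU, Matrix.one_mul]
  have hdet : Matrix.det (U * G * U') = Matrix.det G := by
    have h1 : Matrix.det U' * Matrix.det U = 1 := by rw [← Matrix.det_mul, hU, Matrix.det_one]
    rw [Matrix.det_mul, Matrix.det_mul]
    linear_combination (Matrix.det G) * h1
  rw [hαβ, m2_trace_comb] at htr
  rw [hαβ, m2_det_comb] at hdet
  have hβ : (1 - β ^ 2) * ((Matrix.trace G) ^ 2 - 4 * Matrix.det G) = 0 := by
    have hα : 2 * α = Matrix.trace G * (1 - β) := by linear_combination htr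
    linear_combination (4 : ZMod p) * hdet - (2 * α + Matrix.trace G * (1 - β) +
      2 * β * Matrix.trace G) * hα
  have hβ2 : (1 - β) * (1 + β) = 0 := by
    have := (mul_eq_zero.mp hβ).resolve_right hdisc
    linear_combination this
  rcases mul_eq_zero.mp hβ2 with h | h
  · left
    have hβ1 : β = 1 := by linear_combination -h
    have hα : α = 0 := by
      have : 2 * α = 0 := by rw [hβ1] at htr; linear_combination htr
      exact (mul_eq_zero.mp this).resolve_left h2
    rw [hαβ, hα, hβ1]; simp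
  · right
    have hβ1 : β = -1 := by linear_combination h
    have hα : α = Matrix.trace G := by
      have : 2 * (α - Matrix.trace G) = 0 := by rw [hβ1] at htr; linear_combination htr
      have := (mul_eq_zero.mp this).resolve_left h2
      linear_combination this
    rw [hαβ, hα, hβ1]; simp [sub_eq_add_neg]

/-- the matrix of an element of `W` -/
abbrev matOf {p : ℕ} (W : Subgroup (GL2 p)) (w : ↥W) : M2 p := ((w : GL2 p) : M2 p)

theorem matOf_mul {p : ℕ} (W : Subgroup (GL2 p)) (a b : ↥W) :
    matOf W (a * b) = matOf W a * matOf W b := by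
  simp [matOf]

theorem matOf_injective {p : ℕ} (W : Subgroup (GL2 p)) : Function.Injective (matOf W) := by
  intro a b h
  apply Subtype.ext
  apply Units.ext
  exact h

theorem matOf_inv_mul {p : ℕ} (W : Subgroup (GL2 p)) (a : ↥W) :
    matOf W a⁻¹ * matOf W a = 1 := by
  rw [← matOf_mul, inv_mul_cancel]
  simp [matOf]

theorem matOf_pow {p : ℕ} (W : Subgroup (GL2 p)) (a : ↥W) (n : ℕ) :
    matOf W (a ^ n) = matOf W a ^ n := by
  simp [matOf]

theorem commute_iff_matOf {p : ℕ} (W : Subgroup (GL2 p)) (a b : ↥W) :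
    Commute a b ↔ matOf W a * matOf W b = matOf W b * matOf W a := by
  rw [← matOf_mul, ← matOf_mul]
  exact ⟨fun h => congrArg _ h.eq, fun h => matOf_injective W h⟩

theorem mat_hyps {p : ℕ} [Fact p.Prime] (hp2 : p ≠ 2) (W : Subgroup (GL2 p))
    (hW : (Nat.card W).Coprime p) :
    scalarSub W ≤ Subgroup.center ↥W ∧
    (∀ g : ↥W, g ∉ scalarSub W → ∀ a b : ↥W, Commute a g → Commute b g → Commute a b) ∧
    (∀ g : ↥W, g ∉ scalarSub W → ∀ u v : ↥W, ¬ Commute u g → ¬ Commute v g →
      Commute (u * g * u⁻¹) g → Commute (v * g * v⁻¹) g → Commute (u⁻¹ * v) g) := by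
  refine ⟨?_, ?_, ?_⟩
  · intro w hw
    rw [Subgroup.mem_center_iff]
    intro u
    have hw' : IsScalar (matOf W w) := hw
    exact ((commute_iff_matOf W u w).mpr (hw'.commute (matOf W u)).symm).eq
  · intro g hg a b ha hb
    have hg' : ¬ IsScalar (matOf W g) := hg
    obtain ⟨α, β, hA⟩ := commutant_of_nonscalar (matOf W g) (matOf W a) hg'
      ((commute_iff_matOf W a g).mp ha)
    obtain ⟨α', β', hB⟩ := commutant_of_nonscalar (matOf W g) (matOf W b) hg'
      ((commute_iff_matOf W b g).mp hb)
    rw [commute_iff_matOf, hA, hB]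
    simp only [add_mul, mul_add, Matrix.smul_mul, Matrix.mul_smul, Matrix.one_mul, Matrix.mul_one,
      smul_smul]
    rw [mul_comm α' α, mul_comm β' α, mul_comm α' β, mul_comm β' β]
    abel
  · intro g hg u v hu hv hug hvg
    have hg' : ¬ IsScalar (matOf W g) := hg
    have hfin : Finite ↥W := Nat.finite_of_card_ne_zero (by
      intro h0
      rw [h0, Nat.coprime_zero_left] at hW
      exact (Fact.out : p.Prime).one_lt.ne' hW)
    have hdisc : (Matrix.trace (matOf W g)) ^ 2 - 4 * Matrix.det (matOf W g) ≠ 0 := by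
      intro h0
      apply hg'
      refine isScalar_of_disc_eq_zero hp2 (matOf W g) (Nat.card W) hW ?_ h0
      rw [← matOf_pow, pow_card_eq_one']
      simp [matOf]
    have key : ∀ w : ↥W, ¬ Commute w g → Commute (w * g * w⁻¹) g →
        matOf W (w * g * w⁻¹) = (Matrix.trace (matOf W g)) • (1 : M2 p) - matOf W g := by
      intro w hw hwg
      have h1 : matOf W (w * g * w⁻¹) = matOf W w * matOf W g * matOf W w⁻¹ := by
        rw [matOf_mul, matOf_mul]
      rw [commute_iff_matOf, h1] at hwg
      rcases m2_conj_cases hp2 (matOf W g) (matOf W w) (matOf W w⁻¹) (matOf_inv_mul W w) hg' hdisc hwg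
        with h | h
      · exfalso
        apply hw
        rw [← h1] at h
        have h2 : w * g * w⁻¹ = g := matOf_injective W h
        have h3 : w * g = g * w := by
          calc w * g = (w * g * w⁻¹) * w := by group
            _ = g * w := by rw [h2]
        exact h3
      · rw [h1, h]
    have h1 := key u hu hug
    have h2 := key v hv hvg
    have h3 : u * g * u⁻¹ = v * g * v⁻¹ := matOf_injective W (h1.trans h2.symm)
    have h4 : (u⁻¹ * v) * g = g * (u⁻¹ * v) := by
      calc (u⁻¹ * v) * g = u⁻¹ * (v * g * v⁻¹) * v := by group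
        _ = u⁻¹ * (u * g * u⁻¹) * v := by rw [h3]
        _ = g * (u⁻¹ * v) := by group
    exact h4

end Cfsg.Agent.Lib.Helper70.ES3
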