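import Cfsg.Agent.Lib.Helper70.ES3.Defs

/-!
# ES3 module [COMMUTANT]: the commutant of a non-scalar `2 x 2` matrix `g` is `F + F g`

Paper proof. Write `g = !![a, b; c, d]`, `x = !![x0, x1; x2, x3]`, `x g = g x` entrywise:
`x1 c = b x2`, `x0 b + x1 d = a x1 + b x3`, `x2 a + x3 c = c x0 + d x2`.
* `b ≠ 0`: `β = x1 / b`, `α = x0 - β a`. Then check the four entries (`x2 = β c` from the first equation,
  `x3 = α + β d` from the second).
* `b = 0`, `c ≠ 0`: symmetric, `β = x2 / c`.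
* `b = c = 0`: then `a ≠ d` (non-scalar), equations give `x1 (d - a) = 0`, `x2 (a - d) = 0`, so `x` is diagonal;
  `β = (x0 - x3)/(a - d)`, `α = x0 - β a`.
Use `Matrix.ext`, `Fin.forall_fin_two` (or `fin_cases`), `Matrix.mul_apply`, `Fin.sum_univ_two`, `field_simp`, `linear_combination`.
-/

namespace Cfsg.Agent.Lib.Helper70.ES3

theorem m2_ext_entries {p : ℕ} (x y : M2 p) (h00 : x 0 0 = y 0 0) (h01 : x 0 1 = y 0 1)
    (h10 : x 1 0 = y 1 0) (h11 : x 1 1 = y 1 1) : x = y := by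
  ext i j
  fin_cases i <;> fin_cases j
  · exact h00
  · exact h01
  · exact h10
  · exact h11

theorem m2_comb_apply {p : ℕ} (α β : ZMod p) (g : M2 p) (i j : Fin 2) :
    (α • (1 : M2 p) + β • g) i j = α * (1 : M2 p) i j + β * g i j := by
  simp [Matrix.add_apply, Matrix.smul_apply]

theorem commutant_of_nonscalar {p : ℕ} [Fact p.Prime] (g x : M2 p) (hg : ¬ IsScalar g)
    (h : x * g = g * x) : ∃ α β : ZMod p, x = α • (1 : M2 p) + β • g := by
  have h00 := congrFun (congrFun h 0) 0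
  have h01 := congrFun (congrFun h 0) 1
  have h10 := congrFun (congrFun h 1) 0
  have h11 := congrFun (congrFun h 1) 1
  simp only [Matrix.mul_apply, Fin.sum_univ_two] at h00 h01 h10 h11
  have e00 : (1 : M2 p) 0 0 = 1 := by simp
  have e01 : (1 : M2 p) 0 1 = 0 := by simp
  have e10 : (1 : M2 p) 1 0 = 0 := by simp
  have e11 : (1 : M2 p) 1 1 = 1 := by simp
  by_cases hb : g 0 1 = 0
  · by_cases hc : g 1 0 = 0
    · have had : g 0 0 - g 1 1 ≠ 0 := by
        intro had
        apply hg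
        refine ⟨g 0 0, ?_⟩
        apply m2_ext_entries
        · simp
        · simp [hb]
        · simp [hc]
        · simp only [Matrix.smul_apply, e11, smul_eq_mul, mul_one]
          linear_combination -had
      have hx1 : x 0 1 = 0 := by
        have : x 0 1 * (g 0 0 - g 1 1) = 0 := by
          linear_combination -h01 + (x 0 0 - x 1 1) * hb
        exact (mul_eq_zero.mp this).resolve_right had
      have hx2 : x 1 0 = 0 := by
        have : x 1 0 * (g 0 0 - g 1 1) = 0 := by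
          linear_combination h10 + (x 0 0 - x 1 1) * hc
        exact (mul_eq_zero.mp this).resolve_right had
      refine ⟨x 0 0 - (x 0 0 - x 1 1) / (g 0 0 - g 1 1) * g 0 0,
        (x 0 0 - x 1 1) / (g 0 0 - g 1 1), ?_⟩
      apply m2_ext_entries <;> rw [m2_comb_apply]
      · rw [e00]; ring
      · rw [e01, hb, hx1]; ring
      · rw [e10, hc, hx2]; ring
      · rw [e11]; field_simp; ring
    · have hx1 : x 0 1 = 0 := by
        have : g 1 0 * x 0 1 = 0 := by linear_combination -h11 + x 1 0 * hb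
        exact (mul_eq_zero.mp this).resolve_left hc
      refine ⟨x 0 0 - x 1 0 / g 1 0 * g 0 0, x 1 0 / g 1 0, ?_⟩
      apply m2_ext_entries <;> rw [m2_comb_apply]
      · rw [e00]; ring
      · rw [e01, hb, hx1]; ring
      · rw [e10, mul_zero, zero_add]; field_simp
      · rw [e11]; field_simp; linear_combination h10
  · refine ⟨x 0 0 - x 0 1 / g 0 1 * g 0 0, x 0 1 / g 0 1, ?_⟩
    apply m2_ext_entries <;> rw [m2_comb_apply]
    · rw [e00]; ring
    · rw [e01, mul_zero, zero_add]; field_simp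
    · rw [e10, mul_zero, zero_add]; field_simp; linear_combination -h00
    · rw [e11]; field_simp; linear_combination -h01

/-- Consequence: an eigenvector of a non-scalar `g` is an eigenvector of everything commuting with `g`. -/
theorem eigenvector_of_commute {p : ℕ} [Fact p.Prime] (g x : M2 p) (hg : ¬ IsScalar g)
    (h : x * g = g * x) (v : Fin 2 → ZMod p) (μ : ZMod p) (hv : Matrix.mulVec g v = μ • v) :
    ∃ ν : ZMod p, Matrix.mulVec x v = ν • v := by
  obtain ⟨α, β, rfl⟩ := commutant_of_nonscalar g x hg h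
  refine ⟨α + β * μ, ?_⟩
  rw [Matrix.add_mulVec, Matrix.smul_mulVec, Matrix.smul_mulVec, Matrix.one_mulVec, hv, add_smul,
    mul_smul]

theorem det_ne_zero_of_not_prop {p : ℕ} [Fact p.Prime] (v w : Fin 2 → ZMod p) (hw : w ≠ 0)
    (h : ∀ c : ZMod p, v ≠ c • w) : v 0 * w 1 - w 0 * v 1 ≠ 0 := by
  intro hD
  by_cases hw0 : w 0 = 0
  · have hw1 : w 1 ≠ 0 := by
      intro hw1
      apply hw
      funext i
      fin_cases i
      · exact hw0
      · exact hw1
    apply h (v 1 / w 1)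
    funext i
    fin_cases i
    · simp only [Fin.zero_eta, Pi.smul_apply, smul_eq_mul, hw0, mul_zero]
      rw [hw0] at hD
      have : v 0 * w 1 = 0 := by linear_combination hD
      exact (mul_eq_zero.mp this).resolve_right hw1
    · simp only [Fin.mk_one, Pi.smul_apply, smul_eq_mul]
      field_simp
  · apply h (v 0 / w 0)
    funext i
    fin_cases i
    · simp only [Fin.zero_eta, Pi.smul_apply, smul_eq_mul]
      field_simp
    · simp only [Fin.mk_one, Pi.smul_apply, smul_eq_mul]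
      field_simp
      linear_combination -hD

/-- A `2 x 2` matrix with three pairwise non-proportional eigenvectors is scalar. -/
theorem isScalar_of_three_eigenvectors {p : ℕ} [Fact p.Prime] (g : M2 p)
    (v : Fin 3 → (Fin 2 → ZMod p)) (hv0 : ∀ i, v i ≠ 0)
    (hv : ∀ i j, i ≠ j → ∀ c : ZMod p, v i ≠ c • v j)
    (he : ∀ i, ∃ μ : ZMod p, Matrix.mulVec g (v i) = μ • v i) : IsScalar g := by
  -- each eigenvector is a root of the binary quadratic form `b q² + (a - d) p q - c p²`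
  have hE : ∀ i, g 0 1 * (v i 1) ^ 2 + (g 0 0 - g 1 1) * (v i 0 * v i 1) - g 1 0 * (v i 0) ^ 2 = 0 := by
    intro i
    obtain ⟨μ, hμ⟩ := he i
    have h1 := congrFun hμ 0
    have h2 := congrFun hμ 1
    simp only [Matrix.mulVec, dotProduct, Fin.sum_univ_two, Pi.smul_apply, smul_eq_mul] at h1 h2
    linear_combination (v i 1) * h1 - (v i 0) * h2
  have hD01 := det_ne_zero_of_not_prop (v 0) (v 1) (hv0 1) (hv 0 1 (by decide))
  have hD02 := det_ne_zero_of_not_prop (v 0) (v 2) (hv0 2) (hv 0 2 (by decide))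
  have hD12 := det_ne_zero_of_not_prop (v 1) (v 2) (hv0 2) (hv 1 2 (by decide))
  have hdet : (v 0 0 * v 1 1 - v 1 0 * v 0 1) * (v 0 0 * v 2 1 - v 2 0 * v 0 1) *
      (v 1 0 * v 2 1 - v 2 0 * v 1 1) ≠ 0 := mul_ne_zero (mul_ne_zero hD01 hD02) hD12
  have E0 := hE 0
  have E1 := hE 1
  have E2 := hE 2
  have hb : g 0 1 = 0 := by
    have : g 0 1 * ((v 0 0 * v 1 1 - v 1 0 * v 0 1) * (v 0 0 * v 2 1 - v 2 0 * v 0 1) *
      (v 1 0 * v 2 1 - v 2 0 * v 1 1)) = 0 := by
      linear_combination (v 1 0 * v 2 0 * (v 1 0 * v 2 1 - v 2 0 * v 1 1)) * E0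
        - (v 0 0 * v 2 0 * (v 0 0 * v 2 1 - v 2 0 * v 0 1)) * E1
        + (v 0 0 * v 1 0 * (v 0 0 * v 1 1 - v 1 0 * v 0 1)) * E2
    exact (mul_eq_zero.mp this).resolve_right hdet
  have hc : g 1 0 = 0 := by
    have : g 1 0 * ((v 0 0 * v 1 1 - v 1 0 * v 0 1) * (v 0 0 * v 2 1 - v 2 0 * v 0 1) *
      (v 1 0 * v 2 1 - v 2 0 * v 1 1)) = 0 := by
      linear_combination (-(v 1 1 * v 2 1 * (v 1 0 * v 2 1 - v 2 0 * v 1 1))) * E0
        + (v 0 1 * v 2 1 * (v 0 0 * v 2 1 - v 2 0 * v 0 1)) * E1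
        - (v 0 1 * v 1 1 * (v 0 0 * v 1 1 - v 1 0 * v 0 1)) * E2
    exact (mul_eq_zero.mp this).resolve_right hdet
  have he' : g 0 0 - g 1 1 = 0 := by
    have : (g 0 0 - g 1 1) * ((v 0 0 * v 1 1 - v 1 0 * v 0 1) * (v 0 0 * v 2 1 - v 2 0 * v 0 1) *
      (v 1 0 * v 2 1 - v 2 0 * v 1 1)) = 0 := by
      linear_combination
        (-((v 1 0 * v 2 1 - v 2 0 * v 1 1) * (v 1 0 * v 2 1 + v 2 0 * v 1 1))) * E0
        + ((v 0 0 * v 2 1 - v 2 0 * v 0 1) * (v 0 0 * v 2 1 + v 2 0 * v 0 1)) * E1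
        - ((v 0 0 * v 1 1 - v 1 0 * v 0 1) * (v 0 0 * v 1 1 + v 1 0 * v 0 1)) * E2
    exact (mul_eq_zero.mp this).resolve_right hdet
  refine ⟨g 0 0, ?_⟩
  apply m2_ext_entries
  · simp
  · simp [hb]
  · simp [hc]
  · simp only [Matrix.smul_apply, smul_eq_mul]
    have e11 : (1 : M2 p) 1 1 = 1 := by simp
    rw [e11]
    linear_combination -he'

end Cfsg.Agent.Lib.Helper70.ES3
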