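import Mathlib

/-!
# Project ES3 (S3054 + S3055): extraspecial Sylow p-subgroups of order p^3

Common definitions for the modules. Mathlib only.
-/

namespace Cfsg.Agent.Lib.Helper70.ES3

/-- `2 x 2` matrices over `ZMod p`. -/
abbrev M2 (p : ℕ) := Matrix (Fin 2) (Fin 2) (ZMod p)

/-- `GL_2(ZMod p)`. -/
abbrev GL2 (p : ℕ) := Matrix.GeneralLinearGroup (Fin 2) (ZMod p)

/-- A matrix is scalar. -/
def IsScalar {p : ℕ} (g : M2 p) : Prop := ∃ c : ZMod p, g = c • (1 : M2 p)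

theorem isScalar_one {p : ℕ} : IsScalar (1 : M2 p) := ⟨1, by simp⟩

theorem IsScalar.mul {p : ℕ} {g h : M2 p} (hg : IsScalar g) (hh : IsScalar h) : IsScalar (g * h) := by
  obtain ⟨c, rfl⟩ := hg
  obtain ⟨d, rfl⟩ := hh
  exact ⟨c * d, by rw [Matrix.smul_mul, Matrix.one_mul, smul_smul]⟩

theorem IsScalar.commute {p : ℕ} {g : M2 p} (hg : IsScalar g) (h : M2 p) : g * h = h * g := by
  obtain ⟨c, rfl⟩ := hg
  simp

/-- The scalar matrices inside a subgroup `W` of `GL_2(ZMod p)`, as a subgroup of `W`. -/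
def scalarSub {p : ℕ} [Fact p.Prime] (W : Subgroup (GL2 p)) : Subgroup ↥W where
  carrier := {w | IsScalar ((w : GL2 p) : M2 p)}
  one_mem' := by
    show IsScalar (((1 : ↥W) : GL2 p) : M2 p)
    simpa using isScalar_one
  mul_mem' := by
    intro a b ha hb
    show IsScalar (((a * b : ↥W) : GL2 p) : M2 p)
    have : (((a * b : ↥W) : GL2 p) : M2 p) = ((a : GL2 p) : M2 p) * ((b : GL2 p) : M2 p) := by
      simp
    rw [this]
    exact IsScalar.mul ha hb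
  inv_mem' := by
    intro a ha
    show IsScalar (((a⁻¹ : ↥W) : GL2 p) : M2 p)
    obtain ⟨c, hc⟩ := ha
    have hdet : ((a : GL2 p) : M2 p).det ≠ 0 := by
      have := (a : GL2 p).det_ne_zero
      exact this
    have hc0 : c ≠ 0 := by
      rintro rfl
      rw [hc] at hdet
      simp at hdet
    refine ⟨c⁻¹, ?_⟩
    have h1 : ((a : GL2 p) : M2 p) * (c⁻¹ • (1 : M2 p)) = 1 := by
      rw [hc]; simp [smul_smul, hc0]
    have h2 : (((a⁻¹ : ↥W) : GL2 p) : M2 p) = (((a : GL2 p)⁻¹ : GL2 p) : M2 p) := by simp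
    rw [h2]
    have h3 : ((a : GL2 p) : M2 p) * (((a : GL2 p)⁻¹ : GL2 p) : M2 p) = 1 := by
      rw [← Matrix.GeneralLinearGroup.coe_mul]; simp
    have h4 : (((a : GL2 p)⁻¹ : GL2 p) : M2 p) * ((a : GL2 p) : M2 p) = 1 := by
      rw [← Matrix.GeneralLinearGroup.coe_mul]; simp
    calc (((a : GL2 p)⁻¹ : GL2 p) : M2 p)
        = (((a : GL2 p)⁻¹ : GL2 p) : M2 p) * (((a : GL2 p) : M2 p) * (c⁻¹ • (1 : M2 p))) := by
          rw [h1]; simp
      _ = ((((a : GL2 p)⁻¹ : GL2 p) : M2 p) * ((a : GL2 p) : M2 p)) * (c⁻¹ • (1 : M2 p)) := by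
          rw [Matrix.mul_assoc]
      _ = c⁻¹ • (1 : M2 p) := by rw [h4]; simp

theorem mem_scalarSub {p : ℕ} [Fact p.Prime] (W : Subgroup (GL2 p)) (w : ↥W) :
    w ∈ scalarSub W ↔ IsScalar ((w : GL2 p) : M2 p) := Iff.rfl

/-- `Z(P)` viewed inside `G`, for a subgroup `P` of `G`. -/
def centerIn {G : Type*} [Group G] (P : Subgroup G) : Subgroup G :=
  (Subgroup.center ↥P).map P.subtype

/-- `g` acts on `A` (a subgroup of order `p^2` of `P`) as "`m` on `A/Z(P)`, `k` on `Z(P)`":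
`g a g⁻¹ ∈ a^m Z(P)` for `a ∈ A` and `g z g⁻¹ = z^k` for `z ∈ Z(P)`. -/
def ActsTorus {G : Type*} [Group G] (P A : Subgroup G) (g : G) (m k : ℕ) : Prop :=
  (∀ a ∈ A, ∃ z ∈ centerIn P, g * a * g⁻¹ = a ^ m * z) ∧ (∀ z ∈ centerIn P, g * z * g⁻¹ = z ^ k)

end Cfsg.Agent.Lib.Helper70.ES3
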