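import Cfsg.Agent.Lib.Helper70.ES3.Fin3

/-!
# ES3 module [FIN13]: the case `p = 13` of "every line carries a torus element"

`W ≤ GL_2(13)` a `13'`-group, `l` a generator of `(ZMod 13)ˣ` (order 12), and for EVERY nonzero vector `u` an element
`w ∈ W` with `w u = l⁻¹ u`, `det w = l`. Impossible.

Paper proof.
(a) For such `w` (attached to `u`): `w^k` non-scalar for `k = 1, 2, 3` (if `w^k = c • 1` then `c = l^(-k)` via `u`,
    and determinants give `l^(3k) = 1`, so `12 ∣ 3 k`, `4 ∣ k`). And `w^4` is scalar: `tr w = l⁻¹ + l²` (because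
    `det (w - l⁻¹) = 0` as `u` is in the kernel: `l⁻² - (tr w) l⁻¹ + l = 0`), so by Cayley–Hamilton
    `(w - l⁻¹)(w - l²) = 0`; `X⁴ - l⁻⁴ = (X - l⁻¹)(X - l²) q(X)` because `(l²)⁴ = l⁸ = l⁻⁴` (`l¹² = 1`) and `l⁻¹ ≠ l²`
    (`l³ ≠ 1`). Hence `w⁴ = l⁻⁴ • 1`. (Or: `w` is diagonalizable with eigenvalues `l⁻¹, l²`.)
(b) Take the 14 pairwise non-proportional vectors `u_j`: `(1, a)` (`a : ZMod 13`) and `(0, 1)`; let `f j ∈ W` be an
    element attached to `u_j`. Let `S` be a maximal pairwise non-commuting subset of the image of `f`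
    (a Finset of `GL2 13`); by `mat_klein_four` ([MK]) `S.card ≤ 3`. By maximality every `f j` commutes with some
    `s ∈ S` (possibly `s = f j`).
(c) If `f j` commutes with `s` then `u_j` is an eigenvector of `s` (`eigenvector_of_commute` with `g = f j`
    non-scalar). A non-scalar `s` has at most 2 of the `u_j` as eigenvectors
    (`isScalar_of_three_eigenvectors`). So `14 ≤ 3 * 2`. Contradiction.
-/

namespace Cfsg.Agent.Lib.Helper70.ES3

/-- Cayley–Hamilton consequence for `2 x 2` matrices: `M^4` in terms of `M` and `1`. -/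
theorem pow_four_eq_smul_add_smul {p : ℕ} (M : M2 p) :
    M ^ 4 = (M.trace ^ 3 - 2 * M.trace * M.det) • M + (M.det ^ 2 - M.det * M.trace ^ 2) • (1 : M2 p) := by
  rw [Matrix.trace_fin_two, Matrix.det_fin_two]
  ext i j
  fin_cases i <;> fin_cases j <;>
    simp [pow_succ, Matrix.mul_apply, Fin.sum_univ_two] <;> ring

/-- The characteristic polynomial vanishes at an eigenvalue. -/
theorem charpoly_eval_of_eigen {p : ℕ} [Fact p.Prime] (M : M2 p) (u : Fin 2 → ZMod p) (hu0 : u ≠ 0)
    (a : ZMod p) (h : Matrix.mulVec M u = a • u) : a ^ 2 - M.trace * a + M.det = 0 := by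
  have h0 := congrFun h 0
  have h1 := congrFun h 1
  simp only [Matrix.mulVec, dotProduct, Fin.sum_univ_two, Pi.smul_apply, smul_eq_mul] at h0 h1
  rw [Matrix.trace_fin_two, Matrix.det_fin_two]
  have hex : u 0 ≠ 0 ∨ u 1 ≠ 0 := by
    by_contra hno
    push Not at hno
    apply hu0
    funext i
    fin_cases i
    · exact hno.1
    · exact hno.2
  rcases hex with hi | hi
  · have : (a ^ 2 - (M 0 0 + M 1 1) * a + (M 0 0 * M 1 1 - M 0 1 * M 1 0)) * u 0 = 0 := by
      linear_combination (M 1 1 - a) * h0 - M 0 1 * h1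
    rcases mul_eq_zero.1 this with h2 | h2
    · exact h2
    · exact absurd h2 hi
  · have : (a ^ 2 - (M 0 0 + M 1 1) * a + (M 0 0 * M 1 1 - M 0 1 * M 1 0)) * u 1 = 0 := by
      linear_combination (M 0 0 - a) * h1 - M 1 0 * h0
    rcases mul_eq_zero.1 this with h2 | h2
    · exact h2
    · exact absurd h2 hi

/-- If `w u = l⁻¹ u` (`u ≠ 0`), `det w = l`, `l ^ 12 = 1` and `l ^ 3 ≠ 1` then `w ^ 4` is scalar. -/
theorem isScalar_pow_four_of_eigen {p : ℕ} [Fact p.Prime] (l : (ZMod p)ˣ) (hl12 : l ^ 12 = 1)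
    (hl3 : l ^ 3 ≠ 1) (w : GL2 p) (u : Fin 2 → ZMod p) (hu0 : u ≠ 0)
    (hwu : Matrix.mulVec ((w : GL2 p) : M2 p) u = ((l⁻¹ : (ZMod p)ˣ) : ZMod p) • u)
    (hdet : ((w : GL2 p) : M2 p).det = (l : ZMod p)) :
    IsScalar (((w ^ 4 : GL2 p)) : M2 p) := by
  have hpow : (((w ^ 4 : GL2 p)) : M2 p) = ((w : GL2 p) : M2 p) ^ 4 := by simp
  rw [hpow, pow_four_eq_smul_add_smul]
  set M : M2 p := ((w : GL2 p) : M2 p) with hM
  set L : ZMod p := (l : ZMod p) with hL
  have hL0 : L ≠ 0 := l.ne_zero
  have ha : ((l⁻¹ : (ZMod p)ˣ) : ZMod p) = L⁻¹ := Units.val_inv_eq_inv_val l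
  have hch := charpoly_eval_of_eigen M u hu0 _ hwu
  rw [ha, hdet] at hch
  -- trace
  have htr : M.trace = L⁻¹ + L ^ 2 := by
    have h1 : M.trace * L⁻¹ = (L⁻¹) ^ 2 + L := by linear_combination -hch
    have h2 : M.trace = ((L⁻¹) ^ 2 + L) * L := by
      rw [← h1, mul_assoc, inv_mul_cancel₀ hL0, mul_one]
    rw [h2]
    field_simp
  have hL12 : L ^ 12 = 1 := by
    have := congrArg Units.val hl12
    simpa using this
  have hL3 : L ^ 3 ≠ 1 := by
    intro h
    apply hl3
    apply Units.ext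
    simpa using h
  -- the coefficient of `M` vanishes
  have hα : M.trace ^ 3 - 2 * M.trace * M.det = 0 := by
    rw [htr, hdet]
    have hne : L⁻¹ - L ^ 2 ≠ 0 := by
      intro h
      apply hL3
      have h1 : L⁻¹ = L ^ 2 := sub_eq_zero.1 h
      calc L ^ 3 = L ^ 2 * L := by ring
        _ = L⁻¹ * L := by rw [h1]
        _ = 1 := inv_mul_cancel₀ hL0
    have hprod : (L⁻¹ - L ^ 2) * ((L⁻¹ + L ^ 2) ^ 3 - 2 * (L⁻¹ + L ^ 2) * L) = 0 := by
      have h4 : (L⁻¹) ^ 4 = L ^ 8 := by
        have : L ^ 8 * L ^ 4 = 1 := by rw [← pow_add]; exact hL12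
        rw [inv_pow]
        exact inv_eq_of_mul_eq_one_left this
      have h5 : L⁻¹ * L = 1 := inv_mul_cancel₀ hL0
      linear_combination h4 + 2 * L * (L⁻¹ - L ^ 2) * (L⁻¹ + L ^ 2) * h5
    rcases mul_eq_zero.1 hprod with h | h
    · exact absurd h hne
    · exact h
  rw [hα, zero_smul, zero_add]
  exact ⟨_, rfl⟩

theorem fin_thirteen {p : ℕ} [Fact p.Prime] (hp13 : p = 13)
    (W : Subgroup (GL2 p)) (hW : (Nat.card W).Coprime p)
    (l : (ZMod p)ˣ) (hl : orderOf l = p - 1)
    (hT : ∀ u : Fin 2 → ZMod p, u ≠ 0 →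
      ∃ w ∈ W, Matrix.mulVec ((w : GL2 p) : M2 p) u = ((l⁻¹ : (ZMod p)ˣ) : ZMod p) • u ∧
        ((w : GL2 p) : M2 p).det = (l : ZMod p)) : False := by
  classical
  have hp2 : p ≠ 2 := by omega
  have hl12' : orderOf l = 12 := by rw [hl, hp13]
  have hl12 : l ^ 12 = 1 := by rw [← hl12']; exact pow_orderOf_eq_one l
  have hl3 : l ^ 3 ≠ 1 := by
    intro h
    have := orderOf_dvd_of_pow_eq_one h
    rw [hl12'] at this
    norm_num at this
  -- the 14 vectors
  let U : Option (ZMod p) → (Fin 2 → ZMod p) := fun j =>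
    match j with
    | none => ![0, 1]
    | some a => ![1, a]
  have hU0 : ∀ j, U j ≠ 0 := by
    intro j h
    cases j with
    | none =>
      have := congrFun h 1
      simp [U] at this
    | some a =>
      have := congrFun h 0
      simp [U] at this
  have hUnp : ∀ i j, i ≠ j → ∀ c : ZMod p, U i ≠ c • U j := by
    intro i j hij c h
    cases i with
    | none =>
      cases j with
      | none => exact hij rfl
      | some b =>
        have h0 := congrFun h 0
        have h1 := congrFun h 1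
        simp [U] at h0 h1
        rw [← h0] at h1
        simp at h1
    | some a =>
      cases j with
      | none =>
        have h0 := congrFun h 0
        simp [U] at h0
      | some b =>
        have h0 := congrFun h 0
        have h1 := congrFun h 1
        simp [U] at h0 h1
        rw [← h0, one_mul] at h1
        exact hij (by rw [h1])
  choose f hfW hfU hfdet using fun j => hT (U j) (hU0 j)
  -- (a)
  have hfn : ∀ j, ∀ k : ℕ, 1 ≤ k → k ≤ 3 → ¬ IsScalar ((((f j) ^ k : GL2 p)) : M2 p) := by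
    intro j k hk1 hk3 hs
    have := orderOf_dvd_of_isScalar_pow l (f j) (U j) (hU0 j) (hfU j) (hfdet j) k hs
    rw [hl12'] at this
    interval_cases k <;> norm_num at this
  have hf4 : ∀ j, IsScalar ((((f j) ^ 4 : GL2 p)) : M2 p) := fun j =>
    isScalar_pow_four_of_eigen l hl12 hl3 (f j) (U j) (hU0 j) (hfU j) (hfdet j)
  have hfn1 : ∀ j, ¬ IsScalar (((f j : GL2 p)) : M2 p) := by
    intro j hs
    apply hfn j 1 le_rfl (by norm_num)
    rw [pow_one]; exact hs
  -- the image of `f` and a maximal pairwise non-commuting subset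
  have : NeZero p := ⟨by omega⟩
  let T : Finset (GL2 p) := Finset.univ.image f
  let P : Finset (GL2 p) → Prop := fun S => ∀ g ∈ S, ∀ h ∈ S, g ≠ h → g * h ≠ h * g
  have hne : (T.powerset.filter P).Nonempty :=
    ⟨∅, Finset.mem_filter.2 ⟨Finset.mem_powerset.2 (Finset.empty_subset _), by
      intro g hg; exact absurd hg (Finset.notMem_empty g)⟩⟩
  obtain ⟨S, hSmem, hSmax⟩ := Finset.exists_max_image (T.powerset.filter P) Finset.card hne
  have hST : S ⊆ T := Finset.mem_powerset.1 (Finset.mem_filter.1 hSmem).1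
  have hSP : P S := (Finset.mem_filter.1 hSmem).2
  have hTf : ∀ g ∈ T, ∃ j, f j = g := by
    intro g hg
    obtain ⟨j, _, hj⟩ := Finset.mem_image.1 hg
    exact ⟨j, hj⟩
  have hcard : S.card ≤ 3 := by
    apply mat_klein_four hp2 W hW S
    · intro g hg
      obtain ⟨j, rfl⟩ := hTf g (hST hg)
      exact hfW j
    · intro g hg
      obtain ⟨j, rfl⟩ := hTf g (hST hg)
      exact ⟨hfn j, hf4 j⟩
    · exact hSP
  -- every `f j` commutes with some `s ∈ S`
  have hcomm : ∀ j, ∃ s ∈ S, s * f j = f j * s := by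
    intro j
    by_cases hj : f j ∈ S
    · exact ⟨f j, hj, rfl⟩
    · by_contra hno
      push Not at hno
      have hP' : P (insert (f j) S) := by
        intro g hg h hh hgh
        rw [Finset.mem_insert] at hg hh
        rcases hg with rfl | hg <;> rcases hh with rfl | hh
        · exact absurd rfl hgh
        · intro h1; exact hno h hh h1.symm
        · intro h1; exact hno g hg h1
        · exact hSP g hg h hh hgh
      have hmem' : insert (f j) S ∈ T.powerset.filter P := by
        refine Finset.mem_filter.2 ⟨Finset.mem_powerset.2 ?_, hP'⟩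
        intro g hg
        rw [Finset.mem_insert] at hg
        rcases hg with rfl | hg
        · exact Finset.mem_image.2 ⟨j, Finset.mem_univ _, rfl⟩
        · exact hST hg
      have := hSmax _ hmem'
      rw [Finset.card_insert_of_notMem hj] at this
      omega
  choose σ hσS hσc using hcomm
  -- pigeonhole
  have hunivcard : (Finset.univ : Finset (Option (ZMod p))).card = 14 := by
    rw [Finset.card_univ, Fintype.card_option, ZMod.card, hp13]
  have hpig : ∃ s ∈ S, 2 < (Finset.univ.filter (fun j => σ j = s)).card := by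
    apply Finset.exists_lt_card_fiber_of_mul_lt_card_of_maps_to (fun j _ => hσS j)
    rw [hunivcard]
    omega
  obtain ⟨s, hsS, hs2⟩ := hpig
  obtain ⟨a, b, c, ha, hb, hc, hab, hac, hbc⟩ := Finset.two_lt_card_iff.1 hs2
  have ha' : σ a = s := (Finset.mem_filter.1 ha).2
  have hb' : σ b = s := (Finset.mem_filter.1 hb).2
  have hc' : σ c = s := (Finset.mem_filter.1 hc).2
  obtain ⟨j0, hj0⟩ := hTf s (hST hsS)
  have hsn : ¬ IsScalar ((s : GL2 p) : M2 p) := hj0 ▸ hfn1 j0
  have heig : ∀ j, σ j = s →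
      ∃ ν : ZMod p, Matrix.mulVec ((s : GL2 p) : M2 p) (U j) = ν • U j := by
    intro j hj
    have h1 := hσc j
    rw [hj] at h1
    have h2 : ((s : GL2 p) : M2 p) * ((f j : GL2 p) : M2 p) =
        ((f j : GL2 p) : M2 p) * ((s : GL2 p) : M2 p) := by
      rw [← Matrix.GeneralLinearGroup.coe_mul, ← Matrix.GeneralLinearGroup.coe_mul, h1]
    exact eigenvector_of_commute _ _ (hfn1 j) h2 (U j) _ (hfU j)
  apply hsn
  apply isScalar_of_three_eigenvectors _ ![U a, U b, U c]
  · intro i
    fin_cases i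
    · exact hU0 a
    · exact hU0 b
    · exact hU0 c
  · intro i j hij cc
    fin_cases i <;> fin_cases j
    · exact absurd rfl hij
    · exact hUnp a b hab cc
    · exact hUnp a c hac cc
    · exact hUnp b a hab.symm cc
    · exact absurd rfl hij
    · exact hUnp b c hbc cc
    · exact hUnp c a hac.symm cc
    · exact hUnp c b hbc.symm cc
    · exact absurd rfl hij
  · intro i
    fin_cases i
    · exact heig a ha'
    · exact heig b hb'
    · exact heig c hc'

end Cfsg.Agent.Lib.Helper70.ES3
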