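import Cfsg.Agent.Lib.Helper70.ES3.MK

/-!
# ES3 module [FIN3]: three torus elements with three different eigenlines force small `p`

`W ≤ GL_2(p)` a `p'`-group, `p` odd, `l` a generator of `(ZMod p)ˣ`, and for three pairwise non-proportional
vectors `v i` elements `w i ∈ W` with `w i (v i) = l⁻¹ v i`, `det (w i) = l`. If `p - 1 ∤ 3 k` for `k = 1..5`
(i.e. `p = 11` or `p ≥ 17`) this is impossible.

Paper proof.
(a) `(w i)^k` is non-scalar for `1 ≤ k ≤ 5`: if `(w i)^k = c • 1` then applying to `v i ≠ 0` gives `c = l^(-k)`;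
    determinants give `l^k = c² = l^(-2k)`, so `l^(3k) = 1`, `p - 1 = orderOf l ∣ 3 k`. Contradiction with `hk`.
(b) By `mat_klein_six` ([MK]) the `w i` pairwise commute.
(c) `w j` is non-scalar and commutes with `w i`, `v j` is an eigenvector of `w j`, so `v j` is an eigenvector
    of `w i` (`eigenvector_of_commute`, [COMMUTANT]). So `w 0` has the three eigenvectors `v 0, v 1, v 2`, hence is scalar
    (`isScalar_of_three_eigenvectors`), contradicting (a) with `k = 1`.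
-/

namespace Cfsg.Agent.Lib.Helper70.ES3

/-- Powers of a matrix act on an eigenvector by powers of the eigenvalue. -/
theorem pow_mulVec_of_eigen {p : ℕ} (g : M2 p) (u : Fin 2 → ZMod p) (μ : ZMod p)
    (hu : Matrix.mulVec g u = μ • u) (k : ℕ) : Matrix.mulVec (g ^ k) u = μ ^ k • u := by
  induction k with
  | zero => simp
  | succ n ih =>
    rw [pow_succ, ← Matrix.mulVec_mulVec, hu, Matrix.mulVec_smul, ih, smul_smul, pow_succ, mul_comm]

/-- (a) of [FIN3]/[FIN13]: if `w u = l⁻¹ u`, `u ≠ 0`, `det w = l` and `w ^ k` is scalar, then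
`orderOf l ∣ 3 k`. -/
theorem orderOf_dvd_of_isScalar_pow {p : ℕ} [Fact p.Prime] (l : (ZMod p)ˣ) (w : GL2 p)
    (u : Fin 2 → ZMod p) (hu0 : u ≠ 0)
    (hwu : Matrix.mulVec ((w : GL2 p) : M2 p) u = ((l⁻¹ : (ZMod p)ˣ) : ZMod p) • u)
    (hdet : ((w : GL2 p) : M2 p).det = (l : ZMod p)) (k : ℕ)
    (hs : IsScalar (((w ^ k : GL2 p)) : M2 p)) : orderOf l ∣ 3 * k := by
  obtain ⟨c, hc⟩ := hs
  have hpow : (((w ^ k : GL2 p)) : M2 p) = ((w : GL2 p) : M2 p) ^ k := by
    simp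
  rw [hpow] at hc
  have h1 := pow_mulVec_of_eigen _ u _ hwu k
  rw [hc] at h1
  have h2 : c • u = ((l⁻¹ : (ZMod p)ˣ) : ZMod p) ^ k • u := by
    rw [← h1, Matrix.smul_mulVec, Matrix.one_mulVec]
  -- a nonzero coordinate
  have hex : ∃ i, u i ≠ 0 := by
    by_contra hno
    push Not at hno
    exact hu0 (funext hno)
  obtain ⟨i, hi⟩ := hex
  have hceq : c = ((l⁻¹ : (ZMod p)ˣ) : ZMod p) ^ k := by
    have := congrFun h2 i
    simp only [Pi.smul_apply, smul_eq_mul] at this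
    exact mul_right_cancel₀ hi this
  -- determinants
  have hd : (((w : GL2 p) : M2 p) ^ k).det = c ^ 2 := by
    rw [hc, Matrix.det_smul, Matrix.det_one, mul_one, Fintype.card_fin]
  rw [Matrix.det_pow, hdet, hceq] at hd
  -- transfer to units
  have hunits : l ^ k = (l⁻¹ ^ k) ^ 2 := by
    apply Units.ext
    push_cast
    rw [← Units.val_inv_eq_inv_val]
    exact hd
  have h3 : l ^ (3 * k) = 1 := by
    have h4 : l ^ (3 * k) = l ^ k * (l ^ k) ^ 2 := by
      rw [← pow_mul, ← pow_add]; congr 1; ring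
    rw [h4]
    nth_rewrite 1 [hunits]
    rw [← mul_pow, inv_pow, inv_mul_cancel, one_pow]
  exact orderOf_dvd_of_pow_eq_one h3

theorem fin_three {p : ℕ} [Fact p.Prime] (hp2 : p ≠ 2)
    (hk : ∀ k : ℕ, 1 ≤ k → k ≤ 5 → ¬ (p - 1 ∣ 3 * k))
    (W : Subgroup (GL2 p)) (hW : (Nat.card W).Coprime p)
    (l : (ZMod p)ˣ) (hl : orderOf l = p - 1)
    (v : Fin 3 → (Fin 2 → ZMod p)) (hv0 : ∀ i, v i ≠ 0)
    (hv : ∀ i j, i ≠ j → ∀ c : ZMod p, v i ≠ c • v j)
    (hT : ∀ i, ∃ w ∈ W, Matrix.mulVec ((w : GL2 p) : M2 p) (v i) = ((l⁻¹ : (ZMod p)ˣ) : ZMod p) • v i ∧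
        ((w : GL2 p) : M2 p).det = (l : ZMod p)) : False := by
  choose w hwW hwv hwdet using hT
  -- (a)
  have hn : ∀ i, ∀ k : ℕ, 1 ≤ k → k ≤ 5 → ¬ IsScalar ((((w i) ^ k : GL2 p)) : M2 p) := by
    intro i k hk1 hk5 hs
    have := orderOf_dvd_of_isScalar_pow l (w i) (v i) (hv0 i) (hwv i) (hwdet i) k hs
    rw [hl] at this
    exact hk k hk1 hk5 this
  have hn1 : ∀ i, ¬ IsScalar (((w i : GL2 p)) : M2 p) := by
    intro i hs
    apply hn i 1 le_rfl (by norm_num)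
    rw [pow_one]; exact hs
  -- (b)
  have hcomm : ∀ i j, (w i) * (w j) = (w j) * (w i) := by
    intro i j
    exact mat_klein_six hp2 W hW (w i) (w j) (hwW i) (hwW j) (hn i) (hn j)
  have hcommM : ∀ i j, ((w i : GL2 p) : M2 p) * ((w j : GL2 p) : M2 p) =
      ((w j : GL2 p) : M2 p) * ((w i : GL2 p) : M2 p) := by
    intro i j
    rw [← Matrix.GeneralLinearGroup.coe_mul, ← Matrix.GeneralLinearGroup.coe_mul, hcomm i j]
  -- (c)
  have he : ∀ j, ∃ μ : ZMod p, Matrix.mulVec ((w 0 : GL2 p) : M2 p) (v j) = μ • v j := by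
    intro j
    exact eigenvector_of_commute ((w j : GL2 p) : M2 p) ((w 0 : GL2 p) : M2 p) (hn1 j)
      (hcommM 0 j) (v j) _ (hwv j)
  exact hn1 0 (isScalar_of_three_eigenvectors _ v hv0 hv he)

end Cfsg.Agent.Lib.Helper70.ES3
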