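import Cfsg.Agent.Lib.Helper70.ES3.CMat
import Cfsg.Agent.Lib.Helper70.ES3.Big
import Cfsg.Agent.Lib.Helper70.ES3.AbsK6
import Cfsg.Agent.Lib.Helper70.ES3.AbsK4

/-!
# ES3 module [MK]: the Klein/Dickson lemmas for a `p'`-subgroup `W` of `GL_2(p)`, `p` odd

Glue: [CMAT] (`mat_hyps`) + [BIG] + [ABSK6] / [ABSK4], applied to the group `↥W` with `Z = scalarSub W`.
-/

namespace Cfsg.Agent.Lib.Helper70.ES3

theorem pow_mem_scalarSub_iff {p : ℕ} [Fact p.Prime] (W : Subgroup (GL2 p)) (g : GL2 p) (hg : g ∈ W)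
    (k : ℕ) : (⟨g, hg⟩ : ↥W) ^ k ∈ scalarSub W ↔ IsScalar (((g ^ k : GL2 p)) : M2 p) := by
  rw [mem_scalarSub]
  rfl

/-- Two elements of `W` whose first five powers are non-scalar commute. -/
theorem mat_klein_six {p : ℕ} [Fact p.Prime] (hp2 : p ≠ 2) (W : Subgroup (GL2 p))
    (hW : (Nat.card W).Coprime p) (g₁ g₂ : GL2 p) (h₁ : g₁ ∈ W) (h₂ : g₂ ∈ W)
    (hn₁ : ∀ k : ℕ, 1 ≤ k → k ≤ 5 → ¬ IsScalar (((g₁ ^ k : GL2 p)) : M2 p))
    (hn₂ : ∀ k : ℕ, 1 ≤ k → k ≤ 5 → ¬ IsScalar (((g₂ ^ k : GL2 p)) : M2 p)) :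
    g₁ * g₂ = g₂ * g₁ := by
  obtain ⟨hZ, hab, hnorm⟩ := mat_hyps hp2 W hW
  have key : ∀ (g : GL2 p) (hg : g ∈ W),
      (∀ k : ℕ, 1 ≤ k → k ≤ 5 → ¬ IsScalar (((g ^ k : GL2 p)) : M2 p)) →
      (⟨g, hg⟩ : ↥W) ∉ scalarSub W ∧
      6 * Nat.card (scalarSub W) ≤ Nat.card (Subgroup.centralizer ({(⟨g, hg⟩ : ↥W)} : Set ↥W)) := by
    intro g hg hn
    constructor
    · intro hmem
      have := (pow_mem_scalarSub_iff W g hg 1).mp (by simpa using hmem)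
      exact hn 1 le_rfl (by norm_num) this
    · apply card_centralizer_ge _ hZ
      intro k hk1 hk6 hmem
      exact hn k hk1 (by omega) ((pow_mem_scalarSub_iff W g hg k).mp hmem)
  obtain ⟨ha1, hb1⟩ := key g₁ h₁ hn₁
  obtain ⟨ha2, hb2⟩ := key g₂ h₂ hn₂
  have hc := abs_klein_six (scalarSub W) hZ hab hnorm ⟨g₁, h₁⟩ ⟨g₂, h₂⟩ ha1 ha2 hb1 hb2
  exact congrArg Subtype.val hc.eq

/-- At most three pairwise non-commuting elements of `W` have `g, g², g³` non-scalar and `g⁴` scalar. -/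
theorem mat_klein_four {p : ℕ} [Fact p.Prime] (hp2 : p ≠ 2) (W : Subgroup (GL2 p))
    (hW : (Nat.card W).Coprime p) (S : Finset (GL2 p)) (hSW : ∀ g ∈ S, g ∈ W)
    (hS : ∀ g ∈ S, (∀ k : ℕ, 1 ≤ k → k ≤ 3 → ¬ IsScalar (((g ^ k : GL2 p)) : M2 p)) ∧
      IsScalar (((g ^ 4 : GL2 p)) : M2 p))
    (hnc : ∀ g ∈ S, ∀ h ∈ S, g ≠ h → g * h ≠ h * g) : S.card ≤ 3 := by
  classical
  obtain ⟨hZ, hab, hnorm⟩ := mat_hyps hp2 W hW
  have hcard : (S.subtype (· ∈ W)).card = S.card := by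
    rw [Finset.card_subtype, Finset.filter_true_of_mem hSW]
  rw [← hcard]
  apply abs_klein_four (scalarSub W) hZ hab hnorm
  · intro g hg
    have hgS : (g : GL2 p) ∈ S := Finset.mem_subtype.mp hg
    obtain ⟨hn, h4⟩ := hS _ hgS
    have hk : ∀ k : ℕ, 1 ≤ k → k < 4 → g ^ k ∉ scalarSub W := by
      intro k hk1 hk4 hmem
      exact hn k hk1 (by omega) ((pow_mem_scalarSub_iff W g g.2 k).mp hmem)
    constructor
    · intro hmem
      exact hk 1 le_rfl (by norm_num) (by simpa using hmem)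
    · exact card_centralizer_dvd _ hZ g 4 (by norm_num) hk ((pow_mem_scalarSub_iff W g g.2 4).mpr h4)
  · intro g hg h hh hne hc
    have hgS : (g : GL2 p) ∈ S := Finset.mem_subtype.mp hg
    have hhS : (h : GL2 p) ∈ S := Finset.mem_subtype.mp hh
    exact hnc _ hgS _ hhS (fun e => hne (Subtype.ext e)) (congrArg Subtype.val hc.eq)

end Cfsg.Agent.Lib.Helper70.ES3
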