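import Mathlib
import Cfsg.Agent.Lib.Helper3.ES3Coord

/-!
# ES3 module [TORA-ABS]: in `GL_2(p)` the torus element `diag(l, l⁻¹)` is a product of six elements of order `p`

Abstract form: `A` an elementary abelian group of order `p^2` (multiplicative), `Z ≤ A` of order `p`.
Paper proof. Pick `z₀` generating `Z` and `a₀ ∉ Z`; every element of `A` is uniquely `z₀^i a₀^j` (`i, j` mod `p`):
`A ≃* Multiplicative (ZMod p × ZMod p)`, `Z ↔` first coordinate. For `t : ZMod p` let
`u t : (i, j) ↦ (i + t j, j)` (fixes `Z`, `a₀ ↦ a₀ z₀^t`) and `lo s : (i, j) ↦ (i, j + s i)`; these are automorphisms,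
`(u t)^n = u (n t)`, so `orderOf (u t) = p` for `t ≠ 0` (likewise `lo s`). For `t = l`:
`u t * lo (-t⁻¹) * u t = [[0, t], [-t⁻¹, 0]] =: w t` and `w t * w (-1) = diag (t, t⁻¹)`, `w (-1) = u (-1) * lo 1 * u (-1)`.
So `L = [u t, lo (-t⁻¹), u t, u (-1), lo 1, u (-1)]` has product `(i, j) ↦ (t i, t⁻¹ j)`:
`z ↦ z^t` on `Z` and `a ↦ a^(t⁻¹)` modulo `Z`. (Check the composition order convention of `MulAut`: `(φ * ψ) a = φ (ψ a)`;
since the list is a palindrome-like product either convention can be fixed by a direct computation.)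

Formalised by helper3 on top of `Cfsg/Agent/Lib/Helper3/ES3Coord.lean`.
-/

namespace Cfsg.Agent.Lib.Helper70.ES3

open Cfsg.Agent.Lib.Helper3.ES3 Multiplicative

theorem exists_torus_list {p : ℕ} [Fact p.Prime] {A : Type*} [CommGroup A] [Finite A]
    (hA : Nat.card A = p ^ 2) (hexp : ∀ a : A, a ^ p = 1) (Z : Subgroup A) (hZ : Nat.card Z = p)
    (l : (ZMod p)ˣ) :
    ∃ L : List (MulAut A), (∀ φ ∈ L, orderOf φ = p) ∧
      (∀ z ∈ Z, L.prod z = z ^ ((l : ZMod p)).val) ∧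
      (∀ a : A, ∃ z ∈ Z, L.prod a = a ^ (((l⁻¹ : (ZMod p)ˣ) : ZMod p)).val * z) := by
  have hp : p.Prime := Fact.out
  -- a generator of Z
  have hZbot : Z ≠ ⊥ := by
    rw [← Subgroup.one_lt_card_iff_ne_bot, hZ]
    exact hp.one_lt
  obtain ⟨⟨z₀, hz₀Z⟩, hz₀ne⟩ := Subgroup.ne_bot_iff_exists_ne_one.1 hZbot
  have hz₀ : z₀ ≠ 1 := fun h => hz₀ne (Subtype.ext h)
  have hord : orderOf z₀ = p := orderOf_eq_prime (hexp z₀) hz₀
  have hZeq : Subgroup.zpowers z₀ = Z := by
    apply Subgroup.eq_of_le_of_card_ge ((Subgroup.zpowers_le).2 hz₀Z)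
    rw [Nat.card_zpowers, hord, hZ]
  -- an element outside Z
  obtain ⟨a₀, ha₀⟩ : ∃ a₀ : A, a₀ ∉ Z := by
    by_contra hall
    push Not at hall
    have htop : Z = ⊤ := (Subgroup.eq_top_iff' Z).2 hall
    have : Nat.card Z = Nat.card A := by rw [htop, Subgroup.card_top]
    rw [hZ, hA] at this
    have h2 : p * 1 = p * p := by rw [mul_one, ← sq]; exact this
    have := Nat.eq_of_mul_eq_mul_left hp.pos h2
    exact hp.one_lt.ne this
  have ha₀' : a₀ ∉ Subgroup.zpowers z₀ := by rw [hZeq]; exact ha₀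
  obtain ⟨e, he⟩ := exists_coord (p := p) hA hexp z₀ a₀ hz₀ ha₀'
  have hez : e z₀ = e₁ := coord_z he
  set T : MulAut A ≃* MulAut (M p) := MulAut.congr e with hT
  have hTs : ∀ (Φ : MulAut (M p)) (a : A), T.symm Φ a = e.symm (Φ (e a)) := fun Φ a => rfl
  have hl0 : (l : ZMod p) ≠ 0 := l.ne_zero
  have hlinv : ((l⁻¹ : (ZMod p)ˣ) : ZMod p) = (l : ZMod p)⁻¹ := Units.val_inv_eq_inv_val l
  set L' : List (MulAut (M p)) :=
    [uM (l : ZMod p), loM (-(l : ZMod p)⁻¹), uM (l : ZMod p), uM (-1), loM 1, uM (-1)] with hL'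
  have hprod : ∀ i j : ZMod p,
      L'.prod (ofAdd ((i, j) : V p)) = ofAdd (((l : ZMod p) * i, (l : ZMod p)⁻¹ * j) : V p) := by
    intro i j
    simp only [hL', List.prod_cons, List.prod_nil, mul_one, MulAut.mul_apply, uM_apply, loM_apply]
    congr 2
    · field_simp
      ring
    · field_simp
      ring
  have horder : ∀ Φ ∈ L', orderOf Φ = p := by
    intro Φ hΦ
    simp only [hL', List.mem_cons, List.not_mem_nil, or_false] at hΦ
    have h1 : (-(l : ZMod p)⁻¹) ≠ 0 := neg_ne_zero.2 (inv_ne_zero hl0)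
    have h2 : (-1 : ZMod p) ≠ 0 := neg_ne_zero.2 one_ne_zero
    rcases hΦ with rfl | rfl | rfl | rfl | rfl | rfl
    · exact orderOf_uM hl0
    · exact orderOf_loM h1
    · exact orderOf_uM hl0
    · exact orderOf_uM h2
    · exact orderOf_loM one_ne_zero
    · exact orderOf_uM h2
  refine ⟨L'.map T.symm, ?_, ?_, ?_⟩
  · intro φ hφ
    obtain ⟨Φ, hΦ, rfl⟩ := List.mem_map.1 hφ
    rw [MulEquiv.orderOf_eq]
    exact horder Φ hΦ
  · intro z hz
    have hLp : (L'.map T.symm).prod = T.symm L'.prod := (map_list_prod T.symm L').symm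
    rw [hLp, hTs]
    -- z = z₀ ^ k
    rw [← hZeq] at hz
    obtain ⟨k, rfl⟩ := Subgroup.mem_zpowers_iff.1 hz
    have hek : e (z₀ ^ k) = ofAdd (((k : ZMod p), 0) : V p) := by
      rw [map_zpow, hez]
      apply toAdd.injective
      rw [toAdd_zpow, toAdd_ofAdd]
      show k • ((1, 0) : V p) = _
      ext
      · simp
      · simp
    rw [hek, hprod]
    apply e.injective
    rw [e.apply_symm_apply, map_pow, hek]
    apply toAdd.injective
    rw [toAdd_pow, toAdd_ofAdd, toAdd_ofAdd]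
    ext
    · simp
    · show (l : ZMod p)⁻¹ * 0 = (l : ZMod p).val • (0 : ZMod p)
      rw [mul_zero, smul_zero]
  · intro a
    have hLp : (L'.map T.symm).prod = T.symm L'.prod := (map_list_prod T.symm L').symm
    rw [hLp, hTs]
    set i := (toAdd (e a)).1 with hi
    set j := (toAdd (e a)).2 with hj
    have hea : e a = ofAdd ((i, j) : V p) := rfl
    refine ⟨e.symm (ofAdd ((((l : ZMod p) * i - (l : ZMod p)⁻¹ * i), 0) : V p)), ?_, ?_⟩
    · rw [he, ZMod.val_zero, pow_zero, mul_one]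
      exact Subgroup.pow_mem _ hz₀Z _
    · rw [hea, hprod]
      apply e.injective
      rw [e.apply_symm_apply, map_mul, map_pow, e.apply_symm_apply, hea]
      apply toAdd.injective
      rw [toAdd_mul, toAdd_pow, toAdd_ofAdd, toAdd_ofAdd, toAdd_ofAdd, hlinv]
      ext
      · show (l : ZMod p) * i = ((l : ZMod p)⁻¹).val • i + ((l : ZMod p) * i - (l : ZMod p)⁻¹ * i)
        rw [nsmul_eq_mul, ZMod.natCast_zmod_val]
        ring
      · show (l : ZMod p)⁻¹ * j = ((l : ZMod p)⁻¹).val • j + 0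
        rw [nsmul_eq_mul, ZMod.natCast_zmod_val, add_zero]

end Cfsg.Agent.Lib.Helper70.ES3
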