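import Cfsg.Agent.Lib.Helper70.ES3.PBasic
import Cfsg.Agent.Lib.Helper70.ES3.ToraAbs

/-!
# ES3 module [TORA]: from `Aut_G(A) ≥ SL_2(p)` to a torus element of `G` acting on `A`

Glue: [TORA-ABS] applied to `↥A` with `Z := (centerIn P).subgroupOf A`, then each automorphism in the list is induced
by an element of `G` (hypothesis `hSL`), hence so is the product.
-/

namespace Cfsg.Agent.Lib.Helper70.ES3

theorem list_induced {G : Type*} [Group G] (A : Subgroup G) (p : ℕ)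
    (hSL : ∀ φ : MulAut ↥A, orderOf φ = p → ∃ g : G, ∀ a : ↥A, (φ a : G) = g * (a : G) * g⁻¹)
    (L : List (MulAut ↥A)) (hL : ∀ φ ∈ L, orderOf φ = p) :
    ∃ g : G, ∀ a : ↥A, (L.prod a : G) = g * (a : G) * g⁻¹ := by
  induction L with
  | nil => exact ⟨1, fun a => by simp⟩
  | cons φ L ih =>
    obtain ⟨g₂, hg₂⟩ := ih (fun ψ hψ => hL ψ (List.mem_cons_of_mem _ hψ))
    obtain ⟨g₁, hg₁⟩ := hSL φ (hL φ (List.mem_cons_self))
    refine ⟨g₁ * g₂, fun a => ?_⟩
    rw [List.prod_cons, MulAut.mul_apply, hg₁, hg₂]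
    group

theorem exists_torus_elt {G : Type*} [Group G] [Finite G] {p : ℕ} [Fact p.Prime] (P : Sylow p G)
    (hE : Cfsg.IsExtraspecial p ↥P) (hcard : Nat.card P = p ^ 3) (hexp : Monoid.exponent ↥P = p)
    (A : Subgroup G) (hAP : A ≤ (P : Subgroup G)) (hA : Nat.card A = p ^ 2)
    (hSL : ∀ φ : MulAut ↥A, orderOf φ = p → ∃ g : G, ∀ a : ↥A, (φ a : G) = g * (a : G) * g⁻¹)
    (l : (ZMod p)ˣ) :
    ∃ g : G, ActsTorus (P : Subgroup G) A g ((((l⁻¹ : (ZMod p)ˣ) : ZMod p)).val) (((l : ZMod p)).val) := by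
  have hcomm := comm_of_card (p := p) A hA
  let _ : CommGroup ↥A := { (inferInstance : Group ↥A) with
    mul_comm := fun a b => Subtype.ext (hcomm a a.2 b b.2) }
  have hZA := centerIn_le_of_card P hE hcard A hAP hA
  have hexpA : ∀ a : ↥A, a ^ p = 1 := by
    intro a
    apply Subtype.ext
    have := pow_p_eq_one P hexp (a : G) (hAP a.2)
    simpa using this
  have hZcard : Nat.card ((centerIn (P : Subgroup G)).subgroupOf A) = p := by
    rw [Nat.card_congr (Subgroup.subgroupOfEquivOfLe hZA).toEquiv]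
    exact card_centerIn P hE
  obtain ⟨L, hLord, hLZ, hLA⟩ := exists_torus_list (p := p) (A := ↥A) hA hexpA
    ((centerIn (P : Subgroup G)).subgroupOf A) hZcard l
  obtain ⟨g, hg⟩ := list_induced A p hSL L hLord
  refine ⟨g, ?_, ?_⟩
  · intro a ha
    obtain ⟨z, hz, he⟩ := hLA ⟨a, ha⟩
    refine ⟨(z : G), Subgroup.mem_subgroupOf.mp hz, ?_⟩
    have := hg ⟨a, ha⟩
    rw [he] at this
    rw [← this]
    rfl
  · intro z hz
    have h1 := hLZ ⟨z, hZA hz⟩ (Subgroup.mem_subgroupOf.mpr hz)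
    have := hg ⟨z, hZA hz⟩
    rw [h1] at this
    rw [← this]
    rfl

end Cfsg.Agent.Lib.Helper70.ES3
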