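import Cfsg.Agent.Lib.Helper70.ES3.PBasic
import Cfsg.Agent.Lib.Helper70.ES3.AllradSyl

/-!
# ES3 module [TORB]: Sylow adjustment, from `N_G(A) ∩ N_G(Z)` into `N_G(P)` without changing the action on `A`

`A ≤ P` of order `p^2`, `g ∈ G` normalizing `A` and `Z = Z(P)`. Then some `h ∈ N_G(P)` acts on `A` as `g` does.

Paper proof. `C := C_G(A)`. `P` normalizes `A` (`conj_mem_of_card`) hence normalizes `C`; so `K := P C` (carrier
`{y c | y ∈ P, c ∈ C}`) is a subgroup: `(y c)(y' c') = (y y')((y'⁻¹ c y') c')`, `(y c)⁻¹ = y⁻¹ (y c⁻¹ y⁻¹)`.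
Claim: `g P g⁻¹ ≤ K`. Let `x ∈ P`, `q := g x g⁻¹`. `q` centralizes `Z` (`g⁻¹ z g ∈ Z` is centralized by `x`) and for
`a ∈ A`: `a' := g⁻¹ a g ∈ A`, `x a' x⁻¹ = a' z'` with `z' ∈ Z` (`commutator_mem_centerIn`), so `q a q⁻¹ = a (g z' g⁻¹) ∈ a Z`.
Fix `a₀ ∈ A \ Z`; `q a₀ q⁻¹ = a₀ z₁` with `z₁ ∈ Z`; by `exists_transvection` there is `y ∈ P` with `y a₀ y⁻¹ = a₀ z₁`;
then `y⁻¹ q` centralizes `a₀` and `Z`, hence `A` (`exists_pow_mul_of_card`), i.e. `q ∈ y C ⊆ K`.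
Now `P` and `g P g⁻¹` are Sylow `p`-subgroups of `G` contained in `K`, hence Sylow in `K` (`Sylow.subtype`), hence
conjugate in `K`: `k (g P g⁻¹) k⁻¹ = P` with `k = y c`. Then `c g P (c g)⁻¹ = y⁻¹ P y = P`: `h := c g ∈ N_G(P)` and
`h a h⁻¹ = c (g a g⁻¹) c⁻¹ = g a g⁻¹` as `g a g⁻¹ ∈ A`.
-/

set_option linter.unusedSectionVars false
set_option linter.unusedVariables false
set_option linter.style.haveILetI false
set_option linter.unusedSimpArgs false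

namespace Cfsg.Agent.Lib.Helper70.ES3

open scoped Pointwise

/-- `K = P · C_G(A)` as a subgroup, when `P` normalizes `A`. -/
def mulCentralizer {G : Type*} [Group G] (P A : Subgroup G)
    (hPA : ∀ x ∈ P, ∀ a ∈ A, x * a * x⁻¹ ∈ A) : Subgroup G where
  carrier := {k | ∃ y ∈ P, ∃ c ∈ Subgroup.centralizer (A : Set G), k = y * c}
  one_mem' := ⟨1, P.one_mem, 1, Subgroup.one_mem _, by simp⟩
  mul_mem' := by
    rintro _ _ ⟨y, hy, c, hc, rfl⟩ ⟨y', hy', c', hc', rfl⟩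
    refine ⟨y * y', P.mul_mem hy hy', (y'⁻¹ * c * y') * c', Subgroup.mul_mem _ ?_ hc', by group⟩
    rw [Subgroup.mem_centralizer_iff]
    intro a ha
    have h1 : y' * a * y'⁻¹ ∈ A := hPA y' hy' a ha
    have h2 := (Subgroup.mem_centralizer_iff.mp hc) _ h1
    calc a * (y'⁻¹ * c * y') = y'⁻¹ * ((y' * a * y'⁻¹) * c) * y' := by group
      _ = y'⁻¹ * (c * (y' * a * y'⁻¹)) * y' := by rw [h2]
      _ = y'⁻¹ * c * y' * a := by group
  inv_mem' := by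
    rintro _ ⟨y, hy, c, hc, rfl⟩
    refine ⟨y⁻¹, P.inv_mem hy, y * c⁻¹ * y⁻¹, ?_, by group⟩
    rw [Subgroup.mem_centralizer_iff]
    intro a ha
    have h1 : y⁻¹ * a * y⁻¹⁻¹ ∈ A := hPA y⁻¹ (P.inv_mem hy) a ha
    have h2 := (Subgroup.mem_centralizer_iff.mp (Subgroup.inv_mem _ hc)) _ h1
    calc a * (y * c⁻¹ * y⁻¹) = y * ((y⁻¹ * a * y⁻¹⁻¹) * c⁻¹) * y⁻¹ := by group
      _ = y * (c⁻¹ * (y⁻¹ * a * y⁻¹⁻¹)) * y⁻¹ := by rw [h2]
      _ = y * c⁻¹ * y⁻¹ * a := by group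

theorem mem_mulCentralizer {G : Type*} [Group G] (P A : Subgroup G)
    (hPA : ∀ x ∈ P, ∀ a ∈ A, x * a * x⁻¹ ∈ A) (k : G) :
    k ∈ mulCentralizer P A hPA ↔ ∃ y ∈ P, ∃ c ∈ Subgroup.centralizer (A : Set G), k = y * c :=
  Iff.rfl

theorem exists_normalizer_elt {G : Type*} [Group G] [Finite G] {p : ℕ} [Fact p.Prime] (P : Sylow p G)
    (hE : Cfsg.IsExtraspecial p ↥P) (hcard : Nat.card P = p ^ 3) (hexp : Monoid.exponent ↥P = p)
    (A : Subgroup G) (hAP : A ≤ (P : Subgroup G)) (hA : Nat.card A = p ^ 2) (g : G)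
    (hgA : ∀ a ∈ A, g * a * g⁻¹ ∈ A)
    (hgZ : ∀ z ∈ centerIn (P : Subgroup G), g * z * g⁻¹ ∈ centerIn (P : Subgroup G)) :
    ∃ h ∈ Subgroup.normalizer ((P : Subgroup G) : Set G), ∀ a ∈ A, h * a * h⁻¹ = g * a * g⁻¹ := by
  have hp : p.Prime := Fact.out
  set Z : Subgroup G := centerIn (P : Subgroup G) with hZ
  have hZA : Z ≤ A := centerIn_le_of_card P hE hcard A hAP hA
  have hPA : ∀ x ∈ (P : Subgroup G), ∀ a ∈ A, x * a * x⁻¹ ∈ A := conj_mem_of_card P hE hcard A hAP hA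
  have hZcomm : ∀ z ∈ Z, ∀ x ∈ (P : Subgroup G), x * z = z * x :=
    fun z hz => ((mem_centerIn_iff _ _).mp hz).2
  -- `g⁻¹` also maps `A`, `Z` into themselves
  have hgAn : g ∈ Subgroup.normalizer (A : Set G) := Subgroup.mem_normalizer_fintype hgA
  have hgZn : g ∈ Subgroup.normalizer (Z : Set G) := Subgroup.mem_normalizer_fintype hgZ
  have hgA' : ∀ a ∈ A, g⁻¹ * a * g ∈ A := fun a ha => (Subgroup.mem_normalizer_iff''.mp hgAn a).mp ha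
  have hgZ' : ∀ z ∈ Z, g⁻¹ * z * g ∈ Z := fun z hz => (Subgroup.mem_normalizer_iff''.mp hgZn z).mp hz
  -- some `a₀ ∈ A \ Z`
  have hex : ∃ a₀ ∈ A, a₀ ∉ Z := by
    by_contra hcon
    push Not at hcon
    have hle : A ≤ Z := hcon
    have h1 : Nat.card A ≤ Nat.card Z := Subgroup.card_le_of_le hle
    rw [hA, hZ, card_centerIn P hE] at h1
    have : p ^ 1 < p ^ 2 := Nat.pow_lt_pow_right hp.one_lt (by norm_num)
    rw [pow_one] at this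
    omega
  obtain ⟨a₀, ha₀, ha₀Z⟩ := hex
  have ha₀P : a₀ ∈ (P : Subgroup G) := hAP ha₀
  set K : Subgroup G := mulCentralizer (P : Subgroup G) A hPA with hK
  have hPK : (P : Subgroup G) ≤ K := fun y hy =>
    (mem_mulCentralizer _ _ _ _).mpr ⟨y, hy, 1, Subgroup.one_mem _, by simp⟩
  -- `g P g⁻¹ ≤ K`
  have hconjK : ∀ x ∈ (P : Subgroup G), g * x * g⁻¹ ∈ K := by
    intro x hx
    set q : G := g * x * g⁻¹ with hq
    -- `q` centralizes `Z`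
    have hqZ : ∀ z ∈ Z, q * z * q⁻¹ = z := by
      intro z hz
      have h1 := hZcomm _ (hgZ' z hz) x hx
      calc q * z * q⁻¹ = g * ((x * (g⁻¹ * z * g)) * x⁻¹) * g⁻¹ := by rw [hq]; group
        _ = g * (((g⁻¹ * z * g) * x) * x⁻¹) * g⁻¹ := by rw [h1]
        _ = z := by group
    -- `q a q⁻¹ ∈ Z a`
    have hqA : ∀ a ∈ A, ∃ z ∈ Z, q * a * q⁻¹ = z * a := by
      intro a ha
      have ha' : g⁻¹ * a * g ∈ A := hgA' a ha
      have hz' : x * (g⁻¹ * a * g) * x⁻¹ * (g⁻¹ * a * g)⁻¹ ∈ Z :=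
        commutator_mem_centerIn P hE x hx _ (hAP ha')
      refine ⟨g * (x * (g⁻¹ * a * g) * x⁻¹ * (g⁻¹ * a * g)⁻¹) * g⁻¹, hgZ _ hz', ?_⟩
      rw [hq]; group
    obtain ⟨z₁, hz₁, hqa₀⟩ := hqA a₀ ha₀
    have hz₁a₀ : z₁ * a₀ = a₀ * z₁ := (hZcomm z₁ hz₁ a₀ ha₀P).symm
    obtain ⟨y, hy, hya₀⟩ := exists_transvection P hE hcard hexp A hAP hA a₀ ha₀ ha₀Z z₁ hz₁
    -- `c := y⁻¹ q` centralizes `a₀` and `Z`
    have hca₀ : (y⁻¹ * q) * a₀ * (y⁻¹ * q)⁻¹ = a₀ := by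
      calc (y⁻¹ * q) * a₀ * (y⁻¹ * q)⁻¹ = y⁻¹ * (q * a₀ * q⁻¹) * y := by group
        _ = y⁻¹ * (y * a₀ * y⁻¹) * y := by rw [hqa₀, hz₁a₀, hya₀]
        _ = a₀ := by group
    have hcZ : ∀ z ∈ Z, (y⁻¹ * q) * z * (y⁻¹ * q)⁻¹ = z := by
      intro z hz
      have h1 := hZcomm z hz y hy
      calc (y⁻¹ * q) * z * (y⁻¹ * q)⁻¹ = y⁻¹ * (q * z * q⁻¹) * y := by group
        _ = y⁻¹ * z * y := by rw [hqZ z hz]
        _ = y⁻¹ * (z * y) := by group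
        _ = y⁻¹ * (y * z) := by rw [h1]
        _ = z := by group
    have hcpow : ∀ i : ℕ, (y⁻¹ * q) * a₀ ^ i * (y⁻¹ * q)⁻¹ = a₀ ^ i := by
      intro i
      have : (y⁻¹ * q) * a₀ ^ i * (y⁻¹ * q)⁻¹ = ((y⁻¹ * q) * a₀ * (y⁻¹ * q)⁻¹) ^ i := by
        rw [conj_pow]
      rw [this, hca₀]
    have hcC : y⁻¹ * q ∈ Subgroup.centralizer (A : Set G) := by
      rw [Subgroup.mem_centralizer_iff]
      intro a ha
      obtain ⟨i, z, hz, rfl⟩ := exists_pow_mul_of_card P hE hcard hexp A hAP hA a₀ ha₀ ha₀Z a ha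
      have e1 : (y⁻¹ * q) * (a₀ ^ i * z) * (y⁻¹ * q)⁻¹ = a₀ ^ i * z := by
        calc (y⁻¹ * q) * (a₀ ^ i * z) * (y⁻¹ * q)⁻¹
            = ((y⁻¹ * q) * a₀ ^ i * (y⁻¹ * q)⁻¹) * ((y⁻¹ * q) * z * (y⁻¹ * q)⁻¹) := by group
          _ = a₀ ^ i * z := by rw [hcpow i, hcZ z hz]
      calc a₀ ^ i * z * (y⁻¹ * q) = ((y⁻¹ * q) * (a₀ ^ i * z) * (y⁻¹ * q)⁻¹) * (y⁻¹ * q) := by rw [e1]
        _ = y⁻¹ * q * (a₀ ^ i * z) := by group
    exact (mem_mulCentralizer _ _ _ _).mpr ⟨y, hy, y⁻¹ * q, hcC, by group⟩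
  have hgPK : ((g • P : Sylow p G) : Subgroup G) ≤ K := by
    intro q hq
    rw [Sylow.coe_subgroup_smul, Subgroup.mem_pointwise_smul_iff_inv_smul_mem] at hq
    rw [MulAut.smul_def, MulAut.inv_def, MulAut.conj_symm_apply] at hq
    have := hconjK _ hq
    have e : g * (g⁻¹ * q * g) * g⁻¹ = q := by group
    rwa [e] at this
  -- Sylow in `K`
  obtain ⟨k, hkK, hk⟩ := exists_conj_mem_sylow_of_le P K ((g • P : Sylow p G) : Subgroup G) hPK hgPK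
    (g • P : Sylow p G).isPGroup'
  obtain ⟨y, hy, c, hc, rfl⟩ := (mem_mulCentralizer _ _ _ _).mp hkK
  refine ⟨c * g, ?_, fun a ha => ?_⟩
  · apply Subgroup.mem_normalizer_fintype
    intro x hx
    have hx' : x ∈ (P : Subgroup G) := hx
    have hmem : g * x * g⁻¹ ∈ ((g • P : Sylow p G) : Subgroup G) := by
      rw [Sylow.coe_subgroup_smul, Subgroup.mem_pointwise_smul_iff_inv_smul_mem]
      rw [MulAut.smul_def, MulAut.inv_def, MulAut.conj_symm_apply]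
      have e : g⁻¹ * (g * x * g⁻¹) * g = x := by group
      rw [e]; exact hx'
    have h1 := hk _ hmem
    have h2 : y⁻¹ * (y * c * (g * x * g⁻¹) * (y * c)⁻¹) * y⁻¹⁻¹ ∈ (P : Subgroup G) :=
      Subgroup.mul_mem _ (Subgroup.mul_mem _ (Subgroup.inv_mem _ hy) h1)
        (Subgroup.inv_mem _ (Subgroup.inv_mem _ hy))
    have e : c * g * x * (c * g)⁻¹ = y⁻¹ * (y * c * (g * x * g⁻¹) * (y * c)⁻¹) * y⁻¹⁻¹ := by group
    show c * g * x * (c * g)⁻¹ ∈ (P : Subgroup G)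
    rw [e]; exact h2
  · have h1 : g * a * g⁻¹ ∈ A := hgA a ha
    have h2 := (Subgroup.mem_centralizer_iff.mp hc) _ h1
    calc c * g * a * (c * g)⁻¹ = (c * (g * a * g⁻¹)) * c⁻¹ := by group
      _ = ((g * a * g⁻¹) * c) * c⁻¹ := by rw [h2]
      _ = g * a * g⁻¹ := by group

end Cfsg.Agent.Lib.Helper70.ES3
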