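import Cfsg.Agent.Lib.Helper70.ES3.RepV
import Cfsg.Agent.Lib.Helper70.ES3.Tora
import Cfsg.Agent.Lib.Helper70.ES3.Torb
import Cfsg.Agent.Lib.Helper70.ES3.Allrad
import Cfsg.Agent.Lib.Helper70.ES3.Fin3
import Cfsg.Agent.Lib.Helper70.ES3.Fin13

/-!
# ES3: assembly lemmas for S3054 / S3055
-/

namespace Cfsg.Agent.Lib.Helper70.ES3

theorem exists_generator (p : ℕ) [Fact p.Prime] : ∃ l : (ZMod p)ˣ, orderOf l = p - 1 := by
  obtain ⟨g, hg⟩ := IsCyclic.exists_generator (α := (ZMod p)ˣ)
  refine ⟨g, ?_⟩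
  rw [orderOf_eq_card_of_forall_mem_zpowers hg, Nat.card_eq_fintype_card, ZMod.card_units_eq_totient,
    Nat.totient_prime (Fact.out)]

theorem card_range_coprime {G : Type*} [Group G] [Finite G] {p : ℕ} [Fact p.Prime] (P : Sylow p G)
    (ρ : ↥(Subgroup.normalizer ((P : Subgroup G) : Set G)) →* GL2 p)
    (hρ : ∀ h : ↥(Subgroup.normalizer ((P : Subgroup G) : Set G)),
          (h : G) ∈ (P : Subgroup G) → ρ h = 1) :
    (Nat.card ρ.range).Coprime p := by
  have hpp : p.Prime := Fact.out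
  rw [Nat.coprime_comm, Nat.Prime.coprime_iff_not_dvd hpp]
  intro hdvd
  have h1 : (P : Subgroup G).subgroupOf (Subgroup.normalizer ((P : Subgroup G) : Set G)) ≤ ρ.ker := by
    intro h hh
    rw [MonoidHom.mem_ker]
    exact hρ h (Subgroup.mem_subgroupOf.mp hh)
  have h2 : ρ.ker.index ∣
      ((P : Subgroup G).subgroupOf (Subgroup.normalizer ((P : Subgroup G) : Set G))).index :=
    Subgroup.index_dvd_of_le h1
  rw [Subgroup.index_ker] at h2
  have h3 : ((P : Subgroup G).subgroupOf (Subgroup.normalizer ((P : Subgroup G) : Set G))).index ∣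
      (P : Subgroup G).index := by
    have := Subgroup.relIndex_mul_index (Subgroup.le_normalizer (H := (P : Subgroup G)))
    exact Dvd.intro _ this
  exact P.not_dvd_index (hdvd.trans (h2.trans h3))

/-- All the group theory: a subgroup `A ≤ P` of order `p^2` with `Aut_G(A) ≥ SL_2(p)` gives torus elements in the
image of `ρ`. -/
theorem torus_in_range {G : Type*} [Group G] [Finite G] {p : ℕ} [Fact p.Prime] (P : Sylow p G)
    (hE : Cfsg.IsExtraspecial p ↥P) (hcard : Nat.card P = p ^ 3) (hexp : Monoid.exponent ↥P = p)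
    (ρ : ↥(Subgroup.normalizer ((P : Subgroup G) : Set G)) →* GL2 p)
    (v : Subgroup G → (Fin 2 → ZMod p))
    (hact : ∀ (h : ↥(Subgroup.normalizer ((P : Subgroup G) : Set G))) (A : Subgroup G) (m k : ℕ),
          A ≤ (P : Subgroup G) → Nat.card A = p ^ 2 → ActsTorus (P : Subgroup G) A (h : G) m k →
          Matrix.mulVec ((ρ h : GL2 p) : M2 p) (v A) = (m : ZMod p) • v A ∧
            ((ρ h : GL2 p) : M2 p).det = (k : ZMod p))
    (A : Subgroup G) (hAP : A ≤ (P : Subgroup G)) (hA : Nat.card A = p ^ 2)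
    (hSL : ∀ φ : MulAut ↥A, orderOf φ = p → ∃ g : G, ∀ a : ↥A, (φ a : G) = g * (a : G) * g⁻¹)
    (l : (ZMod p)ˣ) :
    ∃ w ∈ ρ.range, Matrix.mulVec ((w : GL2 p) : M2 p) (v A) = ((l⁻¹ : (ZMod p)ˣ) : ZMod p) • v A ∧
        ((w : GL2 p) : M2 p).det = (l : ZMod p) := by
  obtain ⟨g, hg⟩ := exists_torus_elt P hE hcard hexp A hAP hA hSL l
  have hZA := centerIn_le_of_card P hE hcard A hAP hA
  have hgA : ∀ a ∈ A, g * a * g⁻¹ ∈ A := by
    intro a ha
    obtain ⟨z, hz, he⟩ := hg.1 a ha
    rw [he]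
    exact A.mul_mem (A.pow_mem ha _) (hZA hz)
  have hgZ : ∀ z ∈ centerIn (P : Subgroup G), g * z * g⁻¹ ∈ centerIn (P : Subgroup G) := by
    intro z hz
    rw [hg.2 z hz]
    exact Subgroup.pow_mem _ hz _
  obtain ⟨h, hh, hha⟩ := exists_normalizer_elt P hE hcard hexp A hAP hA g hgA hgZ
  have hact' : ActsTorus (P : Subgroup G) A h ((((l⁻¹ : (ZMod p)ˣ) : ZMod p)).val) (((l : ZMod p)).val) := by
    constructor
    · intro a ha
      rw [hha a ha]
      exact hg.1 a ha
    · intro z hz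
      rw [hha z (hZA hz)]
      exact hg.2 z hz
  obtain ⟨h1, h2⟩ := hact ⟨h, hh⟩ A _ _ hAP hA hact'
  refine ⟨ρ ⟨h, hh⟩, ⟨⟨h, hh⟩, rfl⟩, ?_, ?_⟩
  · rw [h1, ZMod.natCast_zmod_val]
  · rw [h2, ZMod.natCast_zmod_val]

/-- The matrix side for S3055: torus elements on every line force `p ≤ 7`. -/
theorem fin_all {p : ℕ} [Fact p.Prime] (hp2 : p ≠ 2) (hp11 : 11 ≤ p)
    (W : Subgroup (GL2 p)) (hW : (Nat.card W).Coprime p)
    (l : (ZMod p)ˣ) (hl : orderOf l = p - 1)
    (hT : ∀ u : Fin 2 → ZMod p, u ≠ 0 →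
      ∃ w ∈ W, Matrix.mulVec ((w : GL2 p) : M2 p) u = ((l⁻¹ : (ZMod p)ˣ) : ZMod p) • u ∧
        ((w : GL2 p) : M2 p).det = (l : ZMod p)) : False := by
  have hpp : p.Prime := Fact.out
  by_cases h13 : p = 13
  · exact fin_thirteen h13 W hW l hl hT
  · have hk : ∀ k : ℕ, 1 ≤ k → k ≤ 5 → ¬ (p - 1 ∣ 3 * k) := by
      intro k hk1 hk5 hdvd
      have hle := Nat.le_of_dvd (by omega) hdvd
      have hp16 : p ≤ 16 := by omega
      interval_cases p <;> first | omega | (exfalso; revert hpp; decide)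
    have h10 : (1 : ZMod p) ≠ 0 := one_ne_zero
    let v : Fin 3 → (Fin 2 → ZMod p) := ![![1, 0], ![0, 1], ![1, 1]]
    refine fin_three hp2 hk W hW l hl v ?_ ?_ ?_
    · intro i
      fin_cases i
      · intro h; exact h10 (by simpa [v] using congrFun h 0)
      · intro h; exact h10 (by simpa [v] using congrFun h 1)
      · intro h; exact h10 (by simpa [v] using congrFun h 0)
    · intro i j hij c h
      fin_cases i <;> fin_cases j
      · exact hij rfl
      · have := congrFun h 0; simp [v] at this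
      · have h0 := congrFun h 0; have h1 := congrFun h 1; simp [v] at h0 h1; rw [← h0] at h1; exact h10 h1.symm
      · have := congrFun h 1; simp [v] at this
      · exact hij rfl
      · have h0 := congrFun h 0; have h1 := congrFun h 1; simp [v] at h0 h1; rw [← h1] at h0; exact h10 h0.symm
      · have := congrFun h 1; simp [v] at this
      · have := congrFun h 0; simp [v] at this
      · exact hij rfl
    · intro i
      apply hT
      fin_cases i
      · intro h; exact h10 (by simpa [v] using congrFun h 0)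
      · intro h; exact h10 (by simpa [v] using congrFun h 1)
      · intro h; exact h10 (by simpa [v] using congrFun h 0)

end Cfsg.Agent.Lib.Helper70.ES3
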