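import Cfsg.Prelude.Def_Transfer
import Cfsg.Agent.Lib.Helper70.ES3.Defs

/-!
# ES3 module [PBASIC]: basic facts on an extraspecial Sylow subgroup `P` of order `p^3` and exponent `p`

`Z := centerIn P` is `Z(P)` viewed in `G`. Hypotheses `hE hcard hexp` exactly as in S3054/S3055.
`Cfsg.IsExtraspecial p ↥P` unfolds to `(IsPGroup p ↥P ∧ frattini ↥P = center ↥P ∧ commutator ↥P = center ↥P) ∧
Nat.card (center ↥P) = p`.

Paper proofs.
* `card_centerIn`: `centerIn P` is the image of `center ↥P` under the injective `P.subtype`.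
* `pow_p_eq_one`: `Monoid.pow_exponent_eq_one` in `↥P`.
* `commutator_mem_centerIn`: `commutator ↥P = center ↥P`.
* `centerIn_le_of_card`: if `Z ≰ A` then `Z ⊓ A = ⊥` (`|Z| = p`), `|Z A| = p^3`, so `P = Z A` is abelian
  (`A` is abelian, order `p^2`), so `center ↥P = ⊤` has order `p^3 ≠ p`. (Or: `A` has index `p`, is a coatom, and
  `frattini ↥P = center ↥P` lies in every coatom.)
* `comm_of_card`: a group of order `p^2` is commutative (`IsPGroup.commutative_of_card_eq_prime_sq`).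
* `conj_mem_of_card`: `x a x⁻¹ = (x a x⁻¹ a⁻¹) a ∈ Z A = A`.
* `exists_transvection`: take `x ∈ P \ A` (exists by cardinality). `c := x a₀ x⁻¹ a₀⁻¹ ∈ Z`; `c ≠ 1`, else `x` commutes with
  `a₀` and with `Z`, hence with `A = ⟨a₀⟩ Z`; then `⟨x⟩ A = P` is abelian, contradiction. `Z` has prime order so
  `z = c^j` for some `j`; `y := x^j` works: `x^j a₀ x^(-j) = c^j a₀` by induction, `c` being central.
-/

set_option linter.unusedSectionVars false
set_option linter.unusedVariables false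
set_option linter.style.haveILetI false
set_option linter.unusedSimpArgs false

namespace Cfsg.Agent.Lib.Helper70.ES3

open scoped commutatorElement

theorem mem_centerIn_iff {G : Type*} [Group G] (P : Subgroup G) (z : G) :
    z ∈ centerIn P ↔ z ∈ P ∧ ∀ x ∈ P, x * z = z * x := by
  unfold centerIn
  constructor
  · rintro ⟨w, hw, rfl⟩
    refine ⟨w.2, fun x hx => ?_⟩
    have := Subgroup.mem_center_iff.mp hw ⟨x, hx⟩
    exact congrArg Subtype.val this
  · rintro ⟨hz, h⟩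
    exact ⟨⟨z, hz⟩, Subgroup.mem_center_iff.mpr fun g => Subtype.ext (h g g.2), rfl⟩

theorem centerIn_le {G : Type*} [Group G] (P : Subgroup G) : centerIn P ≤ P := by
  unfold centerIn
  exact Subgroup.map_subtype_le _

section
variable {G : Type*} [Group G] [Finite G] {p : ℕ} [Fact p.Prime] (P : Sylow p G)

theorem card_centerIn (hE : Cfsg.IsExtraspecial p ↥P) :
    Nat.card (centerIn (P : Subgroup G)) = p := by
  unfold centerIn
  rw [Subgroup.card_map_of_injective (Subgroup.subtype_injective _)]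
  exact hE.2

theorem pow_p_eq_one (hexp : Monoid.exponent ↥P = p) :
    ∀ x ∈ (P : Subgroup G), x ^ p = 1 := by
  intro x hx
  have h := Monoid.pow_exponent_eq_one (⟨x, hx⟩ : ↥P)
  rw [hexp] at h
  exact congrArg Subtype.val h

theorem commutator_mem_centerIn (hE : Cfsg.IsExtraspecial p ↥P) :
    ∀ x ∈ (P : Subgroup G), ∀ y ∈ (P : Subgroup G), x * y * x⁻¹ * y⁻¹ ∈ centerIn (P : Subgroup G) := by
  intro x hx y hy
  have h1 : ⁅(⟨x, hx⟩ : ↥(P : Subgroup G)), (⟨y, hy⟩ : ↥(P : Subgroup G))⁆ ∈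
      commutator ↥(P : Subgroup G) := by
    rw [commutator_def]
    exact Subgroup.commutator_mem_commutator (Subgroup.mem_top _) (Subgroup.mem_top _)
  have hcc : commutator ↥(P : Subgroup G) = Subgroup.center ↥(P : Subgroup G) := hE.1.2.2
  rw [hcc] at h1
  unfold centerIn
  refine ⟨_, h1, ?_⟩
  simp [commutatorElement_def]

/-- A subgroup of order `p^2` of `P` (order `p^3`), seen inside `P`, is a coatom. -/
theorem isCoatom_subgroupOf_of_card (hcard : Nat.card P = p ^ 3)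
    (A : Subgroup G) (hAP : A ≤ (P : Subgroup G)) (hA : Nat.card A = p ^ 2) :
    IsCoatom (A.subgroupOf (P : Subgroup G)) := by
  have hp : p.Prime := Fact.out
  have hA' : Nat.card (A.subgroupOf (P : Subgroup G)) = p ^ 2 := by
    rw [Nat.card_congr (Subgroup.subgroupOfEquivOfLe hAP).toEquiv, hA]
  have hP' : Nat.card (↥(P : Subgroup G)) = p ^ 3 := hcard
  constructor
  · intro h
    have : Nat.card (A.subgroupOf (P : Subgroup G)) = Nat.card (↥(P : Subgroup G)) := by
      rw [h, Subgroup.card_top]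
    rw [hA', hP'] at this
    have h2 : 2 = 3 := Nat.pow_right_injective hp.two_le this
    omega
  · intro B hB
    have hle : A.subgroupOf (P : Subgroup G) ≤ B := hB.le
    have hd1 : p ^ 2 ∣ Nat.card B := hA' ▸ Subgroup.card_dvd_of_le hle
    have hd2 : Nat.card B ∣ p ^ 3 := hP' ▸ Subgroup.card_subgroup_dvd_card B
    obtain ⟨k, hk, hBk⟩ := (Nat.dvd_prime_pow hp).mp hd2
    have hk2 : 2 ≤ k := by
      rw [hBk] at hd1
      exact (Nat.pow_dvd_pow_iff_le_right hp.one_lt).mp hd1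
    rcases Nat.lt_or_ge k 3 with h3 | h3
    · have hk' : k = 2 := by omega
      exfalso
      have : A.subgroupOf (P : Subgroup G) = B :=
        Subgroup.eq_of_le_of_card_ge hle (by rw [hBk, hA', hk'])
      exact hB.ne this
    · have hk' : k = 3 := by omega
      rw [← Subgroup.card_eq_iff_eq_top, hBk, hP', hk']

theorem centerIn_le_of_card (hE : Cfsg.IsExtraspecial p ↥P) (hcard : Nat.card P = p ^ 3)
    (A : Subgroup G) (hAP : A ≤ (P : Subgroup G)) (hA : Nat.card A = p ^ 2) :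
    centerIn (P : Subgroup G) ≤ A := by
  have hco := isCoatom_subgroupOf_of_card P hcard A hAP hA
  have hfr : frattini ↥(P : Subgroup G) ≤ A.subgroupOf (P : Subgroup G) := frattini_le_coatom hco
  have hfc : frattini ↥(P : Subgroup G) = Subgroup.center ↥(P : Subgroup G) := hE.1.2.1
  rw [hfc] at hfr
  intro z hz
  obtain ⟨w, hw, rfl⟩ := hz
  exact Subgroup.mem_subgroupOf.mp (hfr hw)

theorem comm_of_card (A : Subgroup G) (hA : Nat.card A = p ^ 2) :
    ∀ a ∈ A, ∀ b ∈ A, a * b = b * a := by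
  intro a ha b hb
  haveI : IsMulCommutative ↥A := IsPGroup.isMulCommutative_of_card_eq_prime_sq hA
  have := mul_comm' (⟨a, ha⟩ : ↥A) ⟨b, hb⟩
  exact congrArg Subtype.val this

theorem conj_mem_of_card (hE : Cfsg.IsExtraspecial p ↥P) (hcard : Nat.card P = p ^ 3)
    (A : Subgroup G) (hAP : A ≤ (P : Subgroup G)) (hA : Nat.card A = p ^ 2) :
    ∀ x ∈ (P : Subgroup G), ∀ a ∈ A, x * a * x⁻¹ ∈ A := by
  intro x hx a ha
  have hc := commutator_mem_centerIn P hE x hx a (hAP ha)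
  have hcA := centerIn_le_of_card P hE hcard A hAP hA hc
  have : x * a * x⁻¹ = (x * a * x⁻¹ * a⁻¹) * a := by group
  rw [this]
  exact A.mul_mem hcA ha

/-- `x^j a₀ x^(-j) = c^j a₀` when `c = x a₀ x⁻¹ a₀⁻¹` is central in `P`. -/
theorem pow_conj_eq_of_central {x a₀ c : G} (hx : x ∈ (P : Subgroup G))
    (hc : c ∈ centerIn (P : Subgroup G)) (hxa : x * a₀ * x⁻¹ = c * a₀) (j : ℕ) :
    x ^ j * a₀ * (x ^ j)⁻¹ = c ^ j * a₀ := by
  induction j with
  | zero => simp
  | succ j ih =>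
    have hcj : c ^ j ∈ centerIn (P : Subgroup G) := Subgroup.pow_mem _ hc j
    have hcomm : x * c ^ j = c ^ j * x := ((mem_centerIn_iff _ _).mp hcj).2 x hx
    calc x ^ (j + 1) * a₀ * (x ^ (j + 1))⁻¹
        = x * (x ^ j * a₀ * (x ^ j)⁻¹) * x⁻¹ := by rw [pow_succ']; group
      _ = x * (c ^ j * a₀) * x⁻¹ := by rw [ih]
      _ = (x * c ^ j) * a₀ * x⁻¹ := by group
      _ = c ^ j * (x * a₀ * x⁻¹) := by rw [hcomm]; group
      _ = c ^ j * (c * a₀) := by rw [hxa]
      _ = c ^ (j + 1) * a₀ := by rw [pow_succ]; group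

theorem exists_transvection (hE : Cfsg.IsExtraspecial p ↥P) (hcard : Nat.card P = p ^ 3)
    (hexp : Monoid.exponent ↥P = p)
    (A : Subgroup G) (hAP : A ≤ (P : Subgroup G)) (hA : Nat.card A = p ^ 2)
    (a₀ : G) (ha₀ : a₀ ∈ A) (ha₀Z : a₀ ∉ centerIn (P : Subgroup G))
    (z : G) (hz : z ∈ centerIn (P : Subgroup G)) :
    ∃ y ∈ (P : Subgroup G), y * a₀ * y⁻¹ = a₀ * z := by
  have ha₀P : a₀ ∈ (P : Subgroup G) := hAP ha₀
  -- some `x ∈ P` does not commute with `a₀`
  have hex : ∃ x ∈ (P : Subgroup G), x * a₀ ≠ a₀ * x := by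
    by_contra hcon
    push Not at hcon
    exact ha₀Z ((mem_centerIn_iff _ _).mpr ⟨ha₀P, hcon⟩)
  obtain ⟨x, hx, hxa⟩ := hex
  set c : G := x * a₀ * x⁻¹ * a₀⁻¹ with hc_def
  have hc : c ∈ centerIn (P : Subgroup G) := commutator_mem_centerIn P hE x hx a₀ ha₀P
  have hc1 : c ≠ 1 := by
    intro h
    apply hxa
    have : x * a₀ * x⁻¹ * a₀⁻¹ = 1 := h
    calc x * a₀ = (x * a₀ * x⁻¹ * a₀⁻¹) * (a₀ * x) := by group
      _ = a₀ * x := by rw [this, one_mul]
  have hxac : x * a₀ * x⁻¹ = c * a₀ := by rw [hc_def]; group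
  -- `z` is a power of `c`
  have hcardZ := card_centerIn P hE
  have hc1' : (⟨c, hc⟩ : ↥(centerIn (P : Subgroup G))) ≠ 1 := by
    intro h
    exact hc1 (congrArg Subtype.val h)
  obtain ⟨j, hj⟩ := mem_powers_of_prime_card hcardZ (g' := (⟨z, hz⟩ : ↥(centerIn (P : Subgroup G)))) hc1'
  have hj' : c ^ j = z := by
    have := congrArg Subtype.val hj
    simpa using this
  refine ⟨x ^ j, Subgroup.pow_mem _ hx j, ?_⟩
  rw [pow_conj_eq_of_central P hx hc hxac j, hj']
  exact (((mem_centerIn_iff _ _).mp hz).2 a₀ ha₀P).symm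

/-- Every element of `A` is `a₀^i z` once `a₀ ∈ A \ Z`. -/
theorem exists_pow_mul_of_card (hE : Cfsg.IsExtraspecial p ↥P) (hcard : Nat.card P = p ^ 3)
    (hexp : Monoid.exponent ↥P = p)
    (A : Subgroup G) (hAP : A ≤ (P : Subgroup G)) (hA : Nat.card A = p ^ 2)
    (a₀ : G) (ha₀ : a₀ ∈ A) (ha₀Z : a₀ ∉ centerIn (P : Subgroup G)) :
    ∀ a ∈ A, ∃ i : ℕ, ∃ z ∈ centerIn (P : Subgroup G), a = a₀ ^ i * z := by
  have hp : p.Prime := Fact.out
  have hZA : centerIn (P : Subgroup G) ≤ A := centerIn_le_of_card P hE hcard A hAP hA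
  have hcomm := comm_of_card A hA
  -- `Z' = Z` inside `A`, a normal subgroup of the commutative group `A`
  set Z' : Subgroup ↥A := (centerIn (P : Subgroup G)).subgroupOf A with hZ'
  haveI : Z'.Normal := by
    refine ⟨fun n hn g => ?_⟩
    have : g * n * g⁻¹ = n := by
      apply Subtype.ext
      have := hcomm g g.2 n n.2
      simp only [Subgroup.coe_mul, Subgroup.coe_inv]
      rw [this]; group
    rw [this]; exact hn
  have hcardZ' : Nat.card Z' = p := by
    rw [hZ', Nat.card_congr (Subgroup.subgroupOfEquivOfLe hZA).toEquiv]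
    exact card_centerIn P hE
  have hcardQ : Nat.card (↥A ⧸ Z') = p := by
    have h := Subgroup.card_eq_card_quotient_mul_card_subgroup Z'
    rw [hA, hcardZ'] at h
    have hp0 : 0 < p := hp.pos
    have : p * p = Nat.card (↥A ⧸ Z') * p := by rw [← h]; ring
    exact (Nat.eq_of_mul_eq_mul_right hp0 this).symm
  have hne : (QuotientGroup.mk (⟨a₀, ha₀⟩ : ↥A) : ↥A ⧸ Z') ≠ 1 := by
    intro h
    rw [QuotientGroup.eq_one_iff] at h
    exact ha₀Z (Subgroup.mem_subgroupOf.mp h)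
  intro a ha
  obtain ⟨i, hi⟩ := mem_powers_of_prime_card hcardQ
    (g' := (QuotientGroup.mk (⟨a, ha⟩ : ↥A) : ↥A ⧸ Z')) hne
  have hi' : (QuotientGroup.mk ((⟨a₀, ha₀⟩ : ↥A) ^ i) : ↥A ⧸ Z') = QuotientGroup.mk (⟨a, ha⟩ : ↥A) := by
    rw [QuotientGroup.mk_pow]; exact hi
  rw [QuotientGroup.eq] at hi'
  have hmem : ((⟨a₀, ha₀⟩ : ↥A) ^ i)⁻¹ * (⟨a, ha⟩ : ↥A) ∈ Z' := hi'
  rw [hZ', Subgroup.mem_subgroupOf] at hmem
  refine ⟨i, _, hmem, ?_⟩
  simp
end

end Cfsg.Agent.Lib.Helper70.ES3
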