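import Cfsg.Agent.Lib.Helper70.ES3.PBasic

/-!
# ES3 module [REP-DET]: the determinant of the action on `P / Z(P)` is the action on `Z(P)`

Given `π : P → F_p²` surjective with kernel `Z(P)`, `h ∈ N_G(P)` acting on `P/Z(P)` through the matrix `M`
(`π (h x h⁻¹) = M (π x)`) and on `Z(P)` as `z ↦ z^k`. Then `det M = k` in `ZMod p`.

Paper proof. Commutators `[x, y] := x y x⁻¹ y⁻¹` of elements of `P` lie in `Z(P)` and only depend on `x, y` modulo `Z(P)`;
since they are central, `[x x', y] = [x, y] [x', y]` and `[x, y y'] = [x, y] [x, y']`, `[x, x] = 1`, `[y, x] = [x, y]⁻¹`.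
Pick `x₁, x₂ ∈ P` with `π x₁ = e₁ = (1, 0)`, `π x₂ = e₂ = (0, 1)`, and `c := [x₁, x₂] ∈ Z(P)`. Every `x ∈ P` is
`x₁^a x₂^b z` with `(a, b) = π x`; bilinearity gives `[x, y] = c ^ (a d - b c')` for `π x = (a, b)`, `π y = (c', d)`
(exponents read in `ZMod p`, fine because `c^p = 1`). `c ≠ 1`, otherwise all commutators are trivial and `P` is abelian,
but `|Z(P)| = p ≠ p^3`. Now `h c h⁻¹ = [h x₁ h⁻¹, h x₂ h⁻¹] = c ^ det (M e₁ | M e₂) = c ^ (det M)` and `h c h⁻¹ = c ^ k`;
`orderOf c = p` gives `det M = k` in `ZMod p`.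
-/

namespace Cfsg.Agent.Lib.Helper70.ES3

section ClassTwo

variable {H : Type*} [Group H]

/-- the commutator `x y x⁻¹ y⁻¹`. -/
def cm (x y : H) : H := x * y * x⁻¹ * y⁻¹

theorem cm_self (x : H) : cm x x = 1 := by
  unfold cm
  group

theorem cm_swap (x y : H) : cm y x = (cm x y)⁻¹ := by
  unfold cm
  group

theorem cm_of_mem_center_left {z : H} (hz : z ∈ Subgroup.center H) (y : H) : cm z y = 1 := by
  unfold cm
  rw [Subgroup.mem_center_iff] at hz
  rw [← hz y]
  group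

theorem cm_of_mem_center_right {z : H} (hz : z ∈ Subgroup.center H) (x : H) : cm x z = 1 := by
  rw [cm_swap, cm_of_mem_center_left hz, inv_one]

variable (hc : ∀ x y : H, cm x y ∈ Subgroup.center H)
include hc

theorem cm_mul_left (a b y : H) : cm (a * b) y = cm a y * cm b y := by
  have h1 := Subgroup.mem_center_iff.1 (hc b y)
  unfold cm at h1 ⊢
  calc a * b * y * (a * b)⁻¹ * y⁻¹ = a * (b * y * b⁻¹ * y⁻¹) * (y * a⁻¹ * y⁻¹) := by group
    _ = (b * y * b⁻¹ * y⁻¹) * a * (y * a⁻¹ * y⁻¹) := by rw [h1 a]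
    _ = (b * y * b⁻¹ * y⁻¹) * (a * y * a⁻¹ * y⁻¹) := by group
    _ = (a * y * a⁻¹ * y⁻¹) * (b * y * b⁻¹ * y⁻¹) := (h1 _).symm

theorem cm_mul_right (x a b : H) : cm x (a * b) = cm x a * cm x b := by
  rw [cm_swap (a * b) x, cm_mul_left hc a b x, mul_inv_rev, ← cm_swap b x, ← cm_swap a x]
  exact Subgroup.mem_center_iff.1 (hc x a) _

theorem cm_pow_left (a y : H) (n : ℕ) : cm (a ^ n) y = cm a y ^ n := by
  induction n with
  | zero =>
    rw [pow_zero, pow_zero]
    exact cm_of_mem_center_left (Subgroup.one_mem _) y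
  | succ n ih => rw [pow_succ, cm_mul_left hc, ih, pow_succ]

theorem cm_pow_right (x a : H) (n : ℕ) : cm x (a ^ n) = cm x a ^ n := by
  induction n with
  | zero =>
    rw [pow_zero, pow_zero]
    exact cm_of_mem_center_right (Subgroup.one_mem _) x
  | succ n ih => rw [pow_succ, cm_mul_right hc, ih, pow_succ]

theorem cm_congr_left {u u' : H} (h : u⁻¹ * u' ∈ Subgroup.center H) (w : H) :
    cm u' w = cm u w := by
  have : u' = u * (u⁻¹ * u') := by group
  rw [this, cm_mul_left hc, cm_of_mem_center_left h, mul_one]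

theorem cm_congr_right {u u' : H} (h : u⁻¹ * u' ∈ Subgroup.center H) (w : H) :
    cm w u' = cm w u := by
  have : u' = u * (u⁻¹ * u') := by group
  rw [this, cm_mul_right hc, cm_of_mem_center_right h, mul_one]

/-- the commutator of two "words" in `x₁, x₂`. -/
theorem cm_words (x₁ x₂ : H) (a b c d : ℕ) :
    cm (x₁ ^ a * x₂ ^ b) (x₁ ^ c * x₂ ^ d) = cm x₁ x₂ ^ (a * d) * (cm x₁ x₂)⁻¹ ^ (b * c) := by
  rw [cm_mul_left hc, cm_pow_left hc, cm_pow_left hc, cm_mul_right hc, cm_mul_right hc,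
    cm_pow_right hc, cm_pow_right hc, cm_pow_right hc, cm_pow_right hc, cm_self, cm_self,
    cm_swap x₁ x₂, one_pow, one_pow, one_mul, mul_one, ← pow_mul, ← pow_mul, mul_comm d a,
    mul_comm c b]

end ClassTwo

/-- membership of an element of `P` in `centerIn P` (local copy). -/
theorem val_mem_centerIn_iff {G : Type*} [Group G] (P : Subgroup G) (x : ↥P) :
    (x : G) ∈ centerIn P ↔ x ∈ Subgroup.center ↥P := by
  unfold centerIn
  constructor
  · rintro ⟨y, hy, hyx⟩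
    have : y = x := Subtype.ext hyx
    rwa [← this]
  · intro hx
    exact ⟨x, hx, rfl⟩

theorem vec_eq_combination {p : ℕ} [NeZero p] (v : Fin 2 → ZMod p) :
    ((v 0).val • (Pi.single 0 1 : Fin 2 → ZMod p) + (v 1).val • (Pi.single 1 1 : Fin 2 → ZMod p)) =
      v := by
  funext i
  fin_cases i
  · change (v 0).val • (Pi.single 0 1 : Fin 2 → ZMod p) 0 +
      (v 1).val • (Pi.single 1 1 : Fin 2 → ZMod p) 0 = v 0
    rw [Pi.single_eq_same, Pi.single_eq_of_ne (by decide), smul_zero, add_zero, nsmul_eq_mul,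
      mul_one, ZMod.natCast_zmod_val]
  · change (v 0).val • (Pi.single 0 1 : Fin 2 → ZMod p) 1 +
      (v 1).val • (Pi.single 1 1 : Fin 2 → ZMod p) 1 = v 1
    rw [Pi.single_eq_same, Pi.single_eq_of_ne (by decide), smul_zero, zero_add, nsmul_eq_mul,
      mul_one, ZMod.natCast_zmod_val]

theorem det_of_equivariant {G : Type*} [Group G] [Finite G] {p : ℕ} [Fact p.Prime] (P : Sylow p G)
    (hE : Cfsg.IsExtraspecial p ↥P) (hcard : Nat.card P = p ^ 3) (hexp : Monoid.exponent ↥P = p)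
    (π : ↥P →* Multiplicative (Fin 2 → ZMod p)) (hsurj : Function.Surjective π)
    (hker : ∀ x : ↥P, π x = 1 ↔ (x : G) ∈ centerIn (P : Subgroup G))
    (h : G) (hh : h ∈ Subgroup.normalizer ((P : Subgroup G) : Set G)) (M : M2 p)
    (hM : ∀ x y : ↥P, (y : G) = h * (x : G) * h⁻¹ →
        Multiplicative.toAdd (π y) = Matrix.mulVec M (Multiplicative.toAdd (π x)))
    (k : ℕ) (hk : ∀ z ∈ centerIn (P : Subgroup G), h * z * h⁻¹ = z ^ k) :
    M.det = (k : ZMod p) := by
  classical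
  have hp : p.Prime := Fact.out
  have : NeZero p := ⟨hp.ne_zero⟩
  obtain ⟨⟨_, _, hcomm⟩, hZ⟩ := hE
  -- commutators are central
  have hc : ∀ x y : ↥P, cm x y ∈ Subgroup.center ↥P := by
    intro x y
    rw [← hcomm, commutator_def]
    have := Subgroup.commutator_mem_commutator (Subgroup.mem_top x) (Subgroup.mem_top y)
    rwa [commutatorElement_def] at this
  have hker' : ∀ x : ↥P, π x = 1 ↔ x ∈ Subgroup.center ↥P := fun x =>
    (hker x).trans (val_mem_centerIn_iff _ x)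
  have hπeq : ∀ u u' : ↥P, π u = π u' → u⁻¹ * u' ∈ Subgroup.center ↥P := by
    intro u u' huu
    rw [← hker', map_mul, map_inv, huu, inv_mul_cancel]
  obtain ⟨x₁, hx₁⟩ := hsurj (Multiplicative.ofAdd (Pi.single 0 1))
  obtain ⟨x₂, hx₂⟩ := hsurj (Multiplicative.ofAdd (Pi.single 1 1))
  -- word form
  have hword : ∀ u : ↥P, (x₁ ^ (Multiplicative.toAdd (π u) 0).val *
      x₂ ^ (Multiplicative.toAdd (π u) 1).val)⁻¹ * u ∈ Subgroup.center ↥P := by
    intro u
    apply hπeq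
    rw [map_mul, map_pow, map_pow, hx₁, hx₂, ← ofAdd_nsmul, ← ofAdd_nsmul, ← ofAdd_add,
      vec_eq_combination, ofAdd_toAdd]
  set c := cm x₁ x₂ with hcdef
  have hform : ∀ u w : ↥P, cm u w =
      c ^ ((Multiplicative.toAdd (π u) 0).val * (Multiplicative.toAdd (π w) 1).val) *
        c⁻¹ ^ ((Multiplicative.toAdd (π u) 1).val * (Multiplicative.toAdd (π w) 0).val) := by
    intro u w
    rw [cm_congr_left hc (hword u) w, cm_congr_right hc (hword w), cm_words hc]
  -- c ≠ 1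
  have hc1 : c ≠ 1 := by
    intro hc1
    have hab : ∀ u w : ↥P, u * w = w * u := by
      intro u w
      have := hform u w
      rw [hc1, inv_one, one_pow, one_pow, one_mul] at this
      unfold cm at this
      calc u * w = (u * w * u⁻¹ * w⁻¹) * (w * u) := by group
        _ = w * u := by rw [this, one_mul]
    have htop : Subgroup.center ↥P = ⊤ := by
      rw [eq_top_iff]
      intro z _
      rw [Subgroup.mem_center_iff]
      intro g
      exact hab g z
    rw [htop, Subgroup.card_top] at hZ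
    have h1 : p ^ 3 = p ^ 1 := by rw [pow_one]; exact hcard.symm.trans hZ
    have := Nat.pow_right_injective hp.two_le h1
    omega
  have hcp : c ^ p = 1 := by
    have := Monoid.pow_exponent_eq_one c
    rwa [hexp] at this
  have hord : orderOf c = p := orderOf_eq_prime hcp hc1
  -- the conjugates
  have hmem : ∀ x : ↥P, h * (x : G) * h⁻¹ ∈ (P : Subgroup G) := fun x =>
    (Subgroup.mem_normalizer_iff.1 hh (x : G)).1 x.2
  obtain ⟨y₁, hy₁⟩ : ∃ y : ↥P, (y : G) = h * (x₁ : G) * h⁻¹ := ⟨⟨_, hmem x₁⟩, rfl⟩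
  obtain ⟨y₂, hy₂⟩ : ∃ y : ↥P, (y : G) = h * (x₂ : G) * h⁻¹ := ⟨⟨_, hmem x₂⟩, rfl⟩
  have hπy₁ : Multiplicative.toAdd (π y₁) = fun i => M i 0 := by
    rw [hM x₁ y₁ hy₁, hx₁, toAdd_ofAdd]
    funext i
    simp
  have hπy₂ : Multiplicative.toAdd (π y₂) = fun i => M i 1 := by
    rw [hM x₂ y₂ hy₂, hx₂, toAdd_ofAdd]
    funext i
    simp
  have hcy : cm y₁ y₂ = c ^ k := by
    apply Subtype.ext
    have hcZ : (c : G) ∈ centerIn (P : Subgroup G) := (val_mem_centerIn_iff _ c).2 (hc x₁ x₂)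
    have e1 : ((cm y₁ y₂ : ↥P) : G) = h * (c : G) * h⁻¹ := by
      change (y₁ : G) * (y₂ : G) * (y₁ : G)⁻¹ * (y₂ : G)⁻¹ =
        h * ((x₁ : G) * (x₂ : G) * (x₁ : G)⁻¹ * (x₂ : G)⁻¹) * h⁻¹
      rw [hy₁, hy₂]
      group
    rw [e1, hk _ hcZ, Subgroup.coe_pow]
  have hfy := hform y₁ y₂
  rw [hcy, congrFun hπy₁ 0, congrFun hπy₁ 1, congrFun hπy₂ 0, congrFun hπy₂ 1] at hfy
  -- exponent arithmetic
  have h2 : c ^ (k + (M 1 0).val * (M 0 1).val) = c ^ ((M 0 0).val * (M 1 1).val) := by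
    rw [pow_add, hfy, mul_assoc, inv_pow, inv_mul_cancel, mul_one]
  have h3 : k + (M 1 0).val * (M 0 1).val ≡ (M 0 0).val * (M 1 1).val [MOD p] := by
    have := pow_eq_pow_iff_modEq.1 h2
    rwa [hord] at this
  have h4 := (ZMod.natCast_eq_natCast_iff _ _ p).2 h3
  push_cast at h4
  rw [ZMod.natCast_zmod_val, ZMod.natCast_zmod_val, ZMod.natCast_zmod_val,
    ZMod.natCast_zmod_val] at h4
  rw [Matrix.det_fin_two]
  linear_combination -h4

end Cfsg.Agent.Lib.Helper70.ES3
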