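import Cfsg.Agent.Lib.Helper70.ES3.PBasic

/-!
# ES3 module [REP-PI]: `P / Z(P) ≅ F_p²`, as a surjection `π : P → F_p²` with kernel `Z(P)`

Paper proof. `Q := ↥P ⧸ center ↥P` is abelian (`commutator ↥P = center ↥P`), of order `p^3 / p = p^2`, of exponent
dividing `p`. So `Additive Q` is a `ZMod p`-module (`AddCommGroup.zmodModule`), finite of cardinality `p^2`, so of
`finrank 2` (`Module.card_eq_pow_finrank` / `card_eq_pow_finrank`), hence linearly equivalent to `Fin 2 → ZMod p`
(`Module.finBasisOfFinrankEq` + `Basis.equivFun`, or `LinearEquiv.ofFinrankEq`). Compose `QuotientGroup.mk'` with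
this equivalence. Alternative by hand: pick `x ∉ Z`, `y ∉ ⟨x⟩ Z`, and send `x^a y^b z ↦ (a, b)`.
-/

set_option linter.style.haveILetI false
set_option warn.classDefReducibility false

namespace Cfsg.Agent.Lib.Helper70.ES3

/-- `ZMod p`-module structure on an abelian group of exponent `p` (opaque wrapper). -/
noncomputable def zmodModuleOfExp {p : ℕ} (V : Type*) [AddCommGroup V]
    (hV : ∀ a : V, p • a = 0) : Module (ZMod p) V := AddCommGroup.zmodModule hV

/-- a `ZMod p`-module with `p^2` elements is `F_p²`. -/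
theorem nonempty_linearEquiv_fin_two {p : ℕ} [Fact p.Prime] (V : Type*) [AddCommGroup V]
    [Module (ZMod p) V] [Finite V] (hV : Nat.card V = p ^ 2) :
    Nonempty (V ≃ₗ[ZMod p] (Fin 2 → ZMod p)) := by
  classical
  have hp : p.Prime := Fact.out
  have : Fintype V := Fintype.ofFinite _
  have hfr : Module.finrank (ZMod p) V = 2 := by
    have h1 := Module.card_eq_pow_finrank (K := ZMod p) (V := V)
    rw [ZMod.card, ← Nat.card_eq_fintype_card, hV] at h1
    exact (Nat.pow_right_injective hp.two_le h1).symm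
  have hfr' : Module.finrank (ZMod p) V = Module.finrank (ZMod p) (Fin 2 → ZMod p) := by
    rw [hfr, Module.finrank_fin_fun]
  exact ⟨LinearEquiv.ofFinrankEq V (Fin 2 → ZMod p) hfr'⟩

/-- a commutative group of order `p^2` and exponent `p` is `F_p²`. -/
theorem exists_hom_of_comm {p : ℕ} [Fact p.Prime] (Q : Type*) [CommGroup Q] [Finite Q]
    (hcard : Nat.card Q = p ^ 2) (hexp : ∀ q : Q, q ^ p = 1) :
    ∃ f : Q →* Multiplicative (Fin 2 → ZMod p), Function.Bijective f := by
  have hQexp : ∀ a : Additive Q, p • a = 0 := by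
    intro a
    exact congrArg Additive.ofMul (hexp (Additive.toMul a))
  letI : Module (ZMod p) (Additive Q) := zmodModuleOfExp (Additive Q) hQexp
  have hQcard : Nat.card (Additive Q) = p ^ 2 := hcard
  obtain ⟨e⟩ := nonempty_linearEquiv_fin_two (p := p) (Additive Q) hQcard
  refine ⟨{ toFun := fun x => Multiplicative.ofAdd (e (Additive.ofMul x))
            map_one' := ?_
            map_mul' := ?_ }, ?_, ?_⟩
  · change Multiplicative.ofAdd (e 0) = 1
    rw [map_zero]
    rfl
  · intro x y
    change Multiplicative.ofAdd (e (Additive.ofMul x + Additive.ofMul y)) = _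
    rw [map_add]
    rfl
  · intro x y hxy
    have : e (Additive.ofMul x) = e (Additive.ofMul y) := hxy
    exact e.injective this
  · intro v
    obtain ⟨a, ha⟩ := e.surjective (Multiplicative.toAdd v)
    exact ⟨Additive.toMul a, congrArg Multiplicative.ofAdd ha⟩

open scoped IsMulCommutative in
/-- abstract version of `exists_pi`. -/
theorem exists_pi_aux {H : Type*} [Group H] [Finite H] {p : ℕ} [Fact p.Prime]
    (hE : Cfsg.IsExtraspecial p H) (hcard : Nat.card H = p ^ 3) (hexp : Monoid.exponent H = p) :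
    ∃ π : H →* Multiplicative (Fin 2 → ZMod p),
      Function.Surjective π ∧ ∀ x : H, π x = 1 ↔ x ∈ Subgroup.center H := by
  classical
  have hp : p.Prime := Fact.out
  obtain ⟨⟨_, _, hcomm⟩, hZ⟩ := hE
  have hQc : IsMulCommutative (H ⧸ Subgroup.center H) :=
    Subgroup.Normal.quotient_commutative_iff_commutator_le.2 hcomm.le
  have hQexp : ∀ q : H ⧸ Subgroup.center H, q ^ p = 1 := by
    intro q
    obtain ⟨x, rfl⟩ := QuotientGroup.mk_surjective q
    rw [← QuotientGroup.mk_pow, ← hexp, Monoid.pow_exponent_eq_one]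
    rfl
  have hQcard : Nat.card (H ⧸ Subgroup.center H) = p ^ 2 := by
    have h1 := Subgroup.card_eq_card_quotient_mul_card_subgroup (Subgroup.center H)
    rw [hcard, hZ] at h1
    have h2 : Nat.card (H ⧸ Subgroup.center H) * p = p ^ 2 * p := by rw [← h1]; ring
    exact Nat.eq_of_mul_eq_mul_right hp.pos h2
  obtain ⟨f, hf⟩ := exists_hom_of_comm (p := p) (H ⧸ Subgroup.center H) hQcard hQexp
  refine ⟨f.comp (QuotientGroup.mk' (Subgroup.center H)), ?_, ?_⟩
  · exact hf.2.comp (QuotientGroup.mk'_surjective _)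
  · intro x
    rw [MonoidHom.comp_apply, ← map_one f, hf.1.eq_iff]
    exact QuotientGroup.eq_one_iff x

theorem exists_pi {G : Type*} [Group G] [Finite G] {p : ℕ} [Fact p.Prime] (P : Sylow p G)
    (hE : Cfsg.IsExtraspecial p ↥P) (hcard : Nat.card P = p ^ 3) (hexp : Monoid.exponent ↥P = p) :
    ∃ π : ↥P →* Multiplicative (Fin 2 → ZMod p),
      Function.Surjective π ∧ ∀ x : ↥P, π x = 1 ↔ (x : G) ∈ centerIn (P : Subgroup G) := by
  obtain ⟨π, hs, hk⟩ := exists_pi_aux hE hcard hexp
  refine ⟨π, hs, fun x => ?_⟩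
  rw [hk x]
  unfold centerIn
  constructor
  · intro hx
    exact ⟨x, hx, rfl⟩
  · rintro ⟨y, hy, hyx⟩
    have : y = x := Subtype.ext hyx
    rwa [← this]

end Cfsg.Agent.Lib.Helper70.ES3
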