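import Cfsg.Agent.Lib.Helper70.ES3.PBasic

/-!
# ES3 module [REP-RHO]: the action of `N_G(P)` on `P / Z(P) ≅ F_p²` as a homomorphism to `GL_2(p)`

Given `π : P → F_p²` surjective with kernel `Z(P)` ([REP-PI]).
Paper proof. For `h ∈ N := N_G(P)` conjugation `c_h : ↥P ≃* ↥P`; `x ↦ π (c_h x)` is a homomorphism `P → F_p²` killing
`Z(P) = ker π` (`c_h` preserves the centre). So it factors through the surjection `π`: an additive map
`f_h : F_p² → F_p²` with `f_h (π x) = π (c_h x)`. Additive maps between `ZMod p`-modules are linear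
(`AddMonoidHom.toZModLinearMap`). `f_(h h') = f_h ∘ f_h'`, `f_1 = id`: a monoid homomorphism
`N →* M2 p`, `h ↦ LinearMap.toMatrix' f_h`; a monoid hom from a group lands in the units (`MonoidHom.toHomUnits`).
`Matrix.toLin'`/`Matrix.mulVecLin` translate `f_h u = (ρ h) *ᵥ u`.
-/

namespace Cfsg.Agent.Lib.Helper70.ES3

/-- membership of an element of `P` in `centerIn P`. -/
theorem coe_mem_centerIn_iff {G : Type*} [Group G] (P : Subgroup G) (x : ↥P) :
    (x : G) ∈ centerIn P ↔ x ∈ Subgroup.center ↥P := by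
  unfold centerIn
  constructor
  · rintro ⟨y, hy, hyx⟩
    have : y = x := Subtype.ext hyx
    rwa [← this]
  · intro hx
    exact ⟨x, hx, rfl⟩

/-- conjugation by an element of the normalizer, as an endomorphism of `P`. -/
def conjNorm {G : Type*} [Group G] (P : Subgroup G) (h : ↥(Subgroup.normalizer (P : Set G))) :
    ↥P →* ↥P where
  toFun x := ⟨(h : G) * (x : G) * (h : G)⁻¹, (Subgroup.mem_normalizer_iff.1 h.2 (x : G)).1 x.2⟩
  map_one' := by
    apply Subtype.ext
    simp
  map_mul' := by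
    intro a b
    apply Subtype.ext
    simp

theorem coe_conjNorm {G : Type*} [Group G] (P : Subgroup G)
    (h : ↥(Subgroup.normalizer (P : Set G))) (x : ↥P) :
    ((conjNorm P h x : ↥P) : G) = (h : G) * (x : G) * (h : G)⁻¹ := rfl

theorem conjNorm_mem_center {G : Type*} [Group G] (P : Subgroup G)
    (h : ↥(Subgroup.normalizer (P : Set G))) (x : ↥P) (hx : x ∈ Subgroup.center ↥P) :
    conjNorm P h x ∈ Subgroup.center ↥P := by
  rw [Subgroup.mem_center_iff] at hx ⊢
  intro y
  -- y' = h⁻¹ y h ∈ P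
  have hy' : (h : G)⁻¹ * (y : G) * ((h : G)⁻¹)⁻¹ ∈ P :=
    (Subgroup.mem_normalizer_iff.1 (Subgroup.inv_mem _ h.2) (y : G)).1 y.2
  have h1 := hx ⟨_, hy'⟩
  have h2 : (h : G)⁻¹ * (y : G) * ((h : G)⁻¹)⁻¹ * (x : G) =
      (x : G) * ((h : G)⁻¹ * (y : G) * ((h : G)⁻¹)⁻¹) := congrArg Subtype.val h1
  apply Subtype.ext
  rw [Subgroup.coe_mul, Subgroup.coe_mul, coe_conjNorm]
  rw [inv_inv] at h2
  calc (y : G) * ((h : G) * (x : G) * (h : G)⁻¹)
      = (h : G) * ((h : G)⁻¹ * (y : G) * (h : G) * (x : G)) * (h : G)⁻¹ := by group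
    _ = (h : G) * ((x : G) * ((h : G)⁻¹ * (y : G) * (h : G))) * (h : G)⁻¹ := by rw [h2]
    _ = (h : G) * (x : G) * (h : G)⁻¹ * (y : G) := by group

theorem exists_rho {G : Type*} [Group G] [Finite G] {p : ℕ} [Fact p.Prime] (P : Sylow p G)
    (hE : Cfsg.IsExtraspecial p ↥P) (hcard : Nat.card P = p ^ 3) (hexp : Monoid.exponent ↥P = p)
    (π : ↥P →* Multiplicative (Fin 2 → ZMod p)) (hsurj : Function.Surjective π)
    (hker : ∀ x : ↥P, π x = 1 ↔ (x : G) ∈ centerIn (P : Subgroup G)) :
    ∃ ρ : ↥(Subgroup.normalizer ((P : Subgroup G) : Set G)) →* GL2 p,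
      ∀ (h : ↥(Subgroup.normalizer ((P : Subgroup G) : Set G))) (x y : ↥P),
        (y : G) = (h : G) * (x : G) * (h : G)⁻¹ →
        Multiplicative.toAdd (π y) =
          Matrix.mulVec ((ρ h : GL2 p) : M2 p) (Multiplicative.toAdd (π x)) := by
  classical
  -- existence of the matrix for each `h`
  have hex : ∀ h : ↥(Subgroup.normalizer ((P : Subgroup G) : Set G)), ∃ M : M2 p,
      ∀ x : ↥P, Multiplicative.toAdd (π (conjNorm (P : Subgroup G) h x)) =
        Matrix.mulVec M (Multiplicative.toAdd (π x)) := by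
    intro h
    have hk : π.ker ≤ (π.comp (conjNorm (P : Subgroup G) h)).ker := by
      intro x hx
      rw [MonoidHom.mem_ker] at hx ⊢
      rw [MonoidHom.comp_apply, hker, coe_mem_centerIn_iff]
      rw [hker, coe_mem_centerIn_iff] at hx
      exact conjNorm_mem_center _ h x hx
    let f : Multiplicative (Fin 2 → ZMod p) →* Multiplicative (Fin 2 → ZMod p) :=
      π.liftOfSurjective hsurj ⟨π.comp (conjNorm (P : Subgroup G) h), hk⟩
    have hf : ∀ x : ↥P, f (π x) = π (conjNorm (P : Subgroup G) h x) := by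
      intro x
      exact MonoidHom.liftOfRightInverse_comp_apply π _ _ ⟨π.comp (conjNorm (P : Subgroup G) h), hk⟩ x
    let fa : (Fin 2 → ZMod p) →+ (Fin 2 → ZMod p) := AddMonoidHom.toMultiplicative.symm f
    let L : (Fin 2 → ZMod p) →ₗ[ZMod p] (Fin 2 → ZMod p) := AddMonoidHom.toZModLinearMap p fa
    refine ⟨LinearMap.toMatrix' L, fun x => ?_⟩
    rw [LinearMap.toMatrix'_mulVec]
    change _ = Multiplicative.toAdd (f (Multiplicative.ofAdd (Multiplicative.toAdd (π x))))
    rw [ofAdd_toAdd, hf]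
  choose Mh hMh using hex
  -- uniqueness
  have huniq : ∀ (h : ↥(Subgroup.normalizer ((P : Subgroup G) : Set G))) (M : M2 p),
      (∀ x : ↥P, Multiplicative.toAdd (π (conjNorm (P : Subgroup G) h x)) =
        Matrix.mulVec M (Multiplicative.toAdd (π x))) → M = Mh h := by
    intro h M hM
    apply Matrix.mulVec_injective
    funext v
    obtain ⟨x, hx⟩ := hsurj (Multiplicative.ofAdd v)
    have h1 := hM x
    have h2 := hMh h x
    rw [hx, toAdd_ofAdd] at h1 h2
    rw [← h1, ← h2]
  let ρ₀ : ↥(Subgroup.normalizer ((P : Subgroup G) : Set G)) →* M2 p :=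
    { toFun := Mh
      map_one' := by
        symm
        apply huniq
        intro x
        rw [Matrix.one_mulVec]
        congr 2
        apply Subtype.ext
        rw [coe_conjNorm]
        simp
      map_mul' := by
        intro a b
        symm
        apply huniq
        intro x
        rw [← Matrix.mulVec_mulVec, ← hMh b x, ← hMh a (conjNorm (P : Subgroup G) b x)]
        congr 2
        apply Subtype.ext
        rw [coe_conjNorm, coe_conjNorm, coe_conjNorm]
        simp only [Subgroup.coe_mul, mul_inv_rev]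
        group }
  refine ⟨ρ₀.toHomUnits, fun h x y hy => ?_⟩
  have hy' : y = conjNorm (P : Subgroup G) h x := Subtype.ext hy
  rw [hy']
  exact hMh h x

end Cfsg.Agent.Lib.Helper70.ES3
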