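import Cfsg.Agent.Lib.Helper70.ES3.RepPi
import Cfsg.Agent.Lib.Helper70.ES3.RepRho
import Cfsg.Agent.Lib.Helper70.ES3.RepDet

/-!
# ES3 module [REPV]: the representation `ρ : N_G(P) → GL_2(p)` and the lines `v A` of the subgroups of order `p^2`

From [REP-PI] (`π`), [REP-RHO] (`ρ`, equivariance), [REP-DET] and [PBASIC].
Paper proof. For a subgroup `A ≤ P` of order `p^2` choose `a_A ∈ A \ Z` (`|A| = p^2 > p = |Z|`) and put
`v A := π a_A` (and `v A := 0` for other subgroups). Recall `Z ≤ A`, every `a ∈ A` is `a_A^i z` (`exists_pow_mul_of_card`).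
1. `h ∈ P` ⇒ `h x h⁻¹ = [h, x] x ∈ Z x`, so `ρ h` fixes every `π x`; `π` is onto, so `ρ h = 1`.
2. `v A ≠ 0` since `a_A ∉ Z = ker π`.
3. `v A = c • v B`: then `π (a_A) = π (a_B ^ c.val)`, so `a_A ∈ a_B^c Z ⊆ B`, so `A = ⟨a_A⟩ Z ≤ B`, equal by cardinality.
4. given `u ≠ 0` pick `x` with `π x = u` (`x ∉ Z`); `A := ⟨x⟩ Z` (as a subgroup of `G`; e.g. the preimage under `π` of
   the line spanned by `u`, mapped into `G`) has order `p^2`; `a_A = x^i z` with `p ∤ i` so `v A = i • u`, `u = i⁻¹ • v A`.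
5. `ActsTorus P A h m k`: `h a_A h⁻¹ = a_A^m z`, so `ρ h (v A) = π (a_A^m z) = m • v A`; determinant by [REP-DET].
-/

set_option linter.unusedVariables false

namespace Cfsg.Agent.Lib.Helper70.ES3

/-- `toAdd (π (x ^ i)) = (i : ZMod p) • toAdd (π x)`. -/
theorem toAdd_map_pow {H : Type*} [Group H] {p : ℕ} (π : H →* Multiplicative (Fin 2 → ZMod p))
    (x : H) (i : ℕ) :
    Multiplicative.toAdd (π (x ^ i)) = (i : ZMod p) • Multiplicative.toAdd (π x) := by
  rw [map_pow, toAdd_pow, Nat.cast_smul_eq_nsmul]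

theorem exists_rep_lines {G : Type*} [Group G] [Finite G] {p : ℕ} [Fact p.Prime] (P : Sylow p G)
    (hE : Cfsg.IsExtraspecial p ↥P) (hcard : Nat.card P = p ^ 3) (hexp : Monoid.exponent ↥P = p) :
    ∃ (ρ : ↥(Subgroup.normalizer ((P : Subgroup G) : Set G)) →* GL2 p)
      (v : Subgroup G → (Fin 2 → ZMod p)),
      (∀ h : ↥(Subgroup.normalizer ((P : Subgroup G) : Set G)),
          (h : G) ∈ (P : Subgroup G) → ρ h = 1) ∧
      (∀ A : Subgroup G, A ≤ (P : Subgroup G) → Nat.card A = p ^ 2 → v A ≠ 0) ∧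
      (∀ A B : Subgroup G, A ≤ (P : Subgroup G) → B ≤ (P : Subgroup G) →
          Nat.card A = p ^ 2 → Nat.card B = p ^ 2 → (∃ c : ZMod p, v A = c • v B) → A = B) ∧
      (∀ u : Fin 2 → ZMod p, u ≠ 0 →
          ∃ A : Subgroup G, A ≤ (P : Subgroup G) ∧ Nat.card A = p ^ 2 ∧ ∃ c : ZMod p, u = c • v A) ∧
      (∀ (h : ↥(Subgroup.normalizer ((P : Subgroup G) : Set G))) (A : Subgroup G) (m k : ℕ),
          A ≤ (P : Subgroup G) → Nat.card A = p ^ 2 → ActsTorus (P : Subgroup G) A (h : G) m k →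
          Matrix.mulVec ((ρ h : GL2 p) : M2 p) (v A) = (m : ZMod p) • v A ∧
            ((ρ h : GL2 p) : M2 p).det = (k : ZMod p)) := by
  classical
  have hp : p.Prime := Fact.out
  have : NeZero p := ⟨hp.ne_zero⟩
  obtain ⟨π, hsurj, hker⟩ := exists_pi P hE hcard hexp
  obtain ⟨ρ, hρ⟩ := exists_rho P hE hcard hexp π hsurj hker
  have hZcard : Nat.card (centerIn (P : Subgroup G)) = p := card_centerIn P hE
  -- `π x = π y` iff `x y⁻¹ ∈ Z`
  have hπeq : ∀ x y : ↥P, π x = π y → (x : G) * (y : G)⁻¹ ∈ centerIn (P : Subgroup G) := by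
    intro x y hxy
    have h1 : π (x * y⁻¹) = 1 := by rw [map_mul, map_inv, hxy, mul_inv_cancel]
    have := (hker _).1 h1
    simpa using this
  have hπZ : ∀ x : ↥P, (x : G) ∈ centerIn (P : Subgroup G) → Multiplicative.toAdd (π x) = 0 := by
    intro x hx
    rw [(hker x).2 hx]; rfl
  -- existence of `a_A`
  have hexa : ∀ A : Subgroup G, A ≤ (P : Subgroup G) → Nat.card A = p ^ 2 →
      ∃ a ∈ A, a ∉ centerIn (P : Subgroup G) := by
    intro A hAP hA
    by_contra hno
    push Not at hno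
    have hle : A ≤ centerIn (P : Subgroup G) := hno
    have := Subgroup.card_le_of_le hle
    rw [hA, hZcard] at this
    nlinarith [hp.two_le]
  let aA : Subgroup G → G := fun A =>
    if h : A ≤ (P : Subgroup G) ∧ Nat.card A = p ^ 2 then (hexa A h.1 h.2).choose else 1
  have haA : ∀ A : Subgroup G, A ≤ (P : Subgroup G) → Nat.card A = p ^ 2 →
      aA A ∈ A ∧ aA A ∉ centerIn (P : Subgroup G) := by
    intro A hAP hA
    have : aA A = (hexa A hAP hA).choose := by
      simp only [aA, dif_pos (And.intro hAP hA)]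
    rw [this]
    exact (hexa A hAP hA).choose_spec
  let v : Subgroup G → (Fin 2 → ZMod p) := fun A =>
    if h : A ≤ (P : Subgroup G) ∧ Nat.card A = p ^ 2 then
      Multiplicative.toAdd (π ⟨aA A, h.1 (haA A h.1 h.2).1⟩) else 0
  have hv : ∀ (A : Subgroup G) (hAP : A ≤ (P : Subgroup G)) (hA : Nat.card A = p ^ 2),
      v A = Multiplicative.toAdd (π ⟨aA A, hAP (haA A hAP hA).1⟩) := by
    intro A hAP hA
    simp only [v, dif_pos (And.intro hAP hA)]
  -- every element of `A` is `a_A ^ i z`, so `π a = i • v A`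
  have hπA : ∀ (A : Subgroup G) (hAP : A ≤ (P : Subgroup G)) (hA : Nat.card A = p ^ 2)
      (a : G) (ha : a ∈ A), ∃ i : ℕ, Multiplicative.toAdd (π ⟨a, hAP ha⟩) = (i : ZMod p) • v A := by
    intro A hAP hA a ha
    obtain ⟨i, z, hz, haz⟩ := exists_pow_mul_of_card P hE hcard hexp A hAP hA (aA A)
      (haA A hAP hA).1 (haA A hAP hA).2 a ha
    refine ⟨i, ?_⟩
    have hzP : z ∈ (P : Subgroup G) := centerIn_le _ hz
    have h1 : (⟨a, hAP ha⟩ : ↥P) = (⟨aA A, hAP (haA A hAP hA).1⟩ : ↥P) ^ i * ⟨z, hzP⟩ := by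
      apply Subtype.ext
      simp [haz]
    rw [h1, map_mul, toAdd_mul, toAdd_map_pow, hπZ ⟨z, hzP⟩ hz, add_zero, hv A hAP hA]
  refine ⟨ρ, v, ?_, ?_, ?_, ?_, ?_⟩
  · -- 1.
    intro h hhP
    have hfix : ∀ w : Fin 2 → ZMod p, Matrix.mulVec ((ρ h : GL2 p) : M2 p) w = w := by
      intro w
      obtain ⟨x, hx⟩ := hsurj (Multiplicative.ofAdd w)
      have hyP : (h : G) * (x : G) * (h : G)⁻¹ ∈ (P : Subgroup G) :=
        (P : Subgroup G).mul_mem ((P : Subgroup G).mul_mem hhP x.2) ((P : Subgroup G).inv_mem hhP)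
      have h1 := hρ h x ⟨_, hyP⟩ rfl
      have h2 : π ⟨_, hyP⟩ = π x := by
        have hc := commutator_mem_centerIn P hE (h : G) hhP (x : G) x.2
        have hcP := centerIn_le _ hc
        have h3 : (⟨_, hyP⟩ : ↥P) = ⟨_, hcP⟩ * x := by
          apply Subtype.ext
          simp
        rw [h3, map_mul, (hker ⟨_, hcP⟩).2 hc, one_mul]
      rw [h2, hx] at h1
      exact h1.symm
    have hone : ((ρ h : GL2 p) : M2 p) = 1 := by
      apply Matrix.toLin'.injective
      apply LinearMap.ext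
      intro w
      rw [Matrix.toLin'_apply, hfix w, Matrix.toLin'_one, LinearMap.id_apply]
    apply Units.ext
    exact hone
  · -- 2.
    intro A hAP hA h0
    rw [hv A hAP hA] at h0
    have h1 : π ⟨aA A, hAP (haA A hAP hA).1⟩ = 1 := Multiplicative.toAdd.injective h0
    exact (haA A hAP hA).2 ((hker _).1 h1)
  · -- 3.
    intro A B hAP hBP hA hB ⟨c, hc⟩
    have hZB : centerIn (P : Subgroup G) ≤ B := centerIn_le_of_card P hE hcard B hBP hB
    -- `a_A ∈ B`
    have haAB : aA A ∈ B := by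
      rw [hv A hAP hA, hv B hBP hB, ← ZMod.natCast_zmod_val c, ← toAdd_map_pow] at hc
      have h1 := hπeq _ _ (Multiplicative.toAdd.injective hc)
      have h2 := hZB h1
      simp only [Subgroup.coe_pow] at h2
      have h3 : aA A = (aA A * (aA B ^ c.val)⁻¹) * aA B ^ c.val := by group
      rw [h3]
      exact B.mul_mem h2 (B.pow_mem (haA B hBP hB).1 _)
    have hle : A ≤ B := by
      intro a ha
      obtain ⟨i, z, hz, haz⟩ := exists_pow_mul_of_card P hE hcard hexp A hAP hA (aA A)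
        (haA A hAP hA).1 (haA A hAP hA).2 a ha
      rw [haz]
      exact B.mul_mem (B.pow_mem haAB i) (hZB hz)
    exact Subgroup.eq_of_le_of_card_ge hle (by rw [hA, hB])
  · -- 4.
    intro u hu
    obtain ⟨x, hx⟩ := hsurj (Multiplicative.ofAdd u)
    have hx1 : x ≠ 1 := by
      intro h1
      rw [h1, map_one] at hx
      exact hu (Multiplicative.ofAdd.injective hx.symm)
    have hxp : x ^ p = 1 := by
      have := Monoid.pow_exponent_eq_one x
      rwa [hexp] at this
    have hord : orderOf x = p := orderOf_eq_prime hxp hx1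
    have hH : Nat.card (Subgroup.zpowers x) = p ^ 1 := by
      rw [Nat.card_zpowers, hord, pow_one]
    have hcard' : Nat.card ↥P = p ^ 3 := hcard
    have hdvd : p ^ (1 + 1) ∣ Nat.card ↥P := by
      rw [hcard']; exact pow_dvd_pow p (by norm_num)
    obtain ⟨K, hKcard, hHK⟩ := Sylow.exists_subgroup_card_pow_succ hdvd hH
    refine ⟨K.map (P : Subgroup G).subtype, Subgroup.map_subtype_le _, ?_, ?_⟩
    · rw [Subgroup.card_map_of_injective (Subgroup.subtype_injective _)]
      exact hKcard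
    · have hAP : K.map (P : Subgroup G).subtype ≤ (P : Subgroup G) := Subgroup.map_subtype_le _
      have hA : Nat.card (K.map (P : Subgroup G).subtype) = p ^ 2 := by
        rw [Subgroup.card_map_of_injective (Subgroup.subtype_injective _)]
        exact hKcard
      have hxA : (x : G) ∈ K.map (P : Subgroup G).subtype :=
        ⟨x, hHK (Subgroup.mem_zpowers x), rfl⟩
      obtain ⟨i, hi⟩ := hπA _ hAP hA (x : G) hxA
      refine ⟨i, ?_⟩
      rw [← hi]
      have : (⟨(x : G), hAP hxA⟩ : ↥P) = x := Subtype.ext rfl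
      rw [this, hx]
      rfl
  · -- 5.
    intro h A m k hAP hA hact
    obtain ⟨hact1, hact2⟩ := hact
    constructor
    · obtain ⟨z, hz, hconj⟩ := hact1 (aA A) (haA A hAP hA).1
      have hzP : z ∈ (P : Subgroup G) := centerIn_le _ hz
      have haP : aA A ∈ (P : Subgroup G) := hAP (haA A hAP hA).1
      have hyP : (h : G) * aA A * (h : G)⁻¹ ∈ (P : Subgroup G) := by
        rw [hconj]
        exact (P : Subgroup G).mul_mem ((P : Subgroup G).pow_mem haP m) hzP
      have h1 := hρ h ⟨aA A, haP⟩ ⟨_, hyP⟩ rfl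
      rw [hv A hAP hA, ← h1]
      have h2 : (⟨_, hyP⟩ : ↥P) = (⟨aA A, haP⟩ : ↥P) ^ m * ⟨z, hzP⟩ := by
        apply Subtype.ext
        simp [hconj]
      rw [h2, map_mul, toAdd_mul, toAdd_map_pow, hπZ ⟨z, hzP⟩ hz, add_zero]
    · exact det_of_equivariant P hE hcard hexp π hsurj hker (h : G) h.2 _
        (fun x y hy => hρ h x y hy) k hact2

end Cfsg.Agent.Lib.Helper70.ES3
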